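import Cfsg.Agent.H14.Bit2
import Cfsg.Agent.H17.Words

/-! Matrices over the field with four elements as pairs of bit strings; fast dense products. -/

set_option autoImplicit false

namespace Cfsg.Agent.H17.B4

open H14 Cfsg.Lie Matrix

/-- the first column -/
noncomputable def ones (n : ℕ) : ℕ := Nat.rec 0 (fun a acc => Nat.lor acc (Nat.shiftLeft 1 (Nat.mul 256 a))) n

theorem ones_mul {R : ℕ} (hR : R < 2 ^ 256) (X : ℕ) : ∀ n, ones n < 2 ^ (256 * n) ∧ (X &&& ones n) * R < 2 ^ (256 * n) ∧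
    ∀ a b, b < 256 → ((X &&& ones n) * R).testBit (256 * a + b) = (decide (a < n) && X.testBit (256 * a) && R.testBit b)
  | 0 => by simp [ones]
  | n + 1 => by
    obtain ⟨h1, h2, h3⟩ := ones_mul hR X n
    have e : ones (n + 1) = ones n ||| 2 ^ (256 * n) := by rw [← Nat.one_shiftLeft]; rfl
    have p : 2 ^ (256 * n) < 2 ^ (256 * (n + 1)) := Nat.pow_lt_pow_right (by norm_num) (by omega)
    have h4 : (X &&& ones (n + 1)) * R = 2 ^ (256 * n) * ((X.testBit (256 * n)).toNat * R) + (X &&& ones n) * R := by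
      rw [e, Nat.and_or_distrib_left, Nat.and_two_pow, Nat.or_comm, mul_comm _ (2 ^ _),
        ← Nat.two_pow_add_eq_or_of_lt (lt_of_le_of_lt Nat.and_le_right h1)]
      ring
    have h5 : (X.testBit (256 * n)).toNat * R < 2 ^ 256 := by
      cases X.testBit (256 * n)
      exacts [by simp, by rwa [Bool.toNat_true, one_mul]]
    refine ⟨e ▸ Nat.or_lt_two_pow (h1.trans p) p, ?_, fun a b hb => ?_⟩
    · rw [h4, mul_add, pow_add, mul_one]
      exact (Nat.add_lt_add_left h2 _).trans_le (Nat.mul_le_mul_left _ h5)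
    rw [h4, Nat.testBit_two_pow_mul_add _ h2]
    rcases lt_trichotomy a n with h | rfl | h
    · rw [if_pos (by omega), h3 a b hb]; simp [h, h.trans n.lt_succ_self]
    · rw [if_neg (by omega)]
      cases X.testBit (256 * a) <;> simp
    · rw [if_neg (by omega), Nat.testBit_lt_two_pow (h5.trans_le (Nat.pow_le_pow_right (by norm_num) (by omega)))]
      simp [show ¬ a < n + 1 by omega]

/-- the mask of a row -/
def msk : ℕ := 0xffffffffffffffffffffffffffffffffffffffffffffffffffffffffffffffff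

/-- product of bit matrices -/
noncomputable def mulB (o n A B : ℕ) : ℕ := Nat.rec 0 (fun j acc => Nat.xor acc
  (Nat.mul (Nat.land (Nat.shiftRight A j) o) (Nat.land (Nat.shiftRight B (Nat.mul 256 j)) msk))) n

variable {D : ChevalleyDatum} {F : Type*} [Field F] [CharP F 2]

theorem matOf_mulB (hN : D.rank + D.nroots ≤ 256) (A B : ℕ) :
    matOf D F (mulB (ones (D.rank + D.nroots)) (D.rank + D.nroots) A B) = matOf D F A * matOf D F B := by
  have h : ∀ n (a b : D.Idx), matOf D F (mulB (ones (D.rank + D.nroots)) n A B) a b = ∑ j ∈ Finset.range n,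
      (if A.testBit (256 * enc a + j) then 1 else 0) * (if B.testBit (256 * j + enc b) then 1 else 0) := fun n a b => by
    induction n with
    | zero => simp [mulB, matOf]
    | succ n ih =>
      have := enc_lt b
      change matOf D F (mulB _ n A B ^^^ ((A >>> n) &&& _) * ((B >>> (256 * n)) &&& msk)) a b = _
      rw [matOf_xor, Matrix.add_apply, ih, Finset.sum_range_succ, add_right_inj, matOf, of_apply,
        (ones_mul (lt_of_le_of_lt Nat.and_le_right (by decide)) _ _).2.2 _ _ (by omega), show msk = 2 ^ 256 - 1 by decide]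
      simp only [Nat.testBit_and, Nat.testBit_shiftRight, Nat.testBit_two_pow_sub_one, enc_lt a, show enc b < 256 by omega,
        add_comm n]
      cases A.testBit _ <;> simp
  ext a b
  rw [h, mul_apply, Finset.sum_range, ← finSumFinEquiv.sum_comp]
  refine Finset.sum_congr rfl fun c _ => ?_
  rw [show (finSumFinEquiv c : ℕ) = enc c by rcases c with c | c <;> rfl]
  rfl

variable (D) in
/-- a pair of bit strings as a matrix -/
def dec (ω : F) (A : ℕ × ℕ) : Matrix D.Idx D.Idx F := matOf D F A.1 + ω • matOf D F A.2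

/-- product of pairs -/
noncomputable def mul4 {β : Type} (o n : ℕ) (A : ℕ × ℕ) (c d : ℕ) (k : ℕ → ℕ → β) : β :=
  force (mulB o n A.1 c) fun p => force (Nat.xor p (mulB o n A.2 d)) fun lo =>
    force (Nat.xor p (mulB o n (Nat.xor A.1 A.2) (Nat.xor c d))) fun hi => k lo hi

/-- product along a word -/
noncomputable def wm {β : Type} (o n i : ℕ) (Ms : List (ℕ × ℕ)) (u : List ℕ) : (ℕ → ℕ → β) → β :=
  List.rec (fun k => k i 0) (fun x _ ih k => ih fun c d => mul4 o n (nth (i, 0) Ms x) c d k) u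

/-- sum of products -/
noncomputable def sm {β : Type} (o n i : ℕ) (Ms : List (ℕ × ℕ)) (W : List (List ℕ)) : (ℕ → ℕ → β) → β :=
  List.rec (fun k => k 0 0) (fun u _ ih k => ih fun a b => wm o n i Ms u fun c d =>
    force (Nat.xor a c) fun x => force (Nat.xor b d) fun y => k x y) W

/-- the check that a sum of products has a given value -/
noncomputable def sumB (o n i : ℕ) (Ms : List (ℕ × ℕ)) (W : List (List ℕ)) (A : ℕ × ℕ) : Bool :=
  sm o n i Ms W fun a b => Bool.rec false (Nat.beq b A.2) (Nat.beq a A.1)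

variable (D) in
/-- the letters -/
noncomputable def ltr (ω : F) (Ms : List (ℕ × ℕ)) (x : ℕ) : Matrix D.Idx D.Idx F := dec D ω (nth (idm (D.rank + D.nroots), 0) Ms x)

variable {ω : F} (hω : ω * ω = ω + 1) (hN : D.rank + D.nroots ≤ 256) {o n i : ℕ} (hn : D.rank + D.nroots = n) (ho : ones n = o)
  (hi : idm n = i) {Ms : List (ℕ × ℕ)}

omit [CharP F 2] in
theorem matOf_zero : matOf D F 0 = 0 := by ext; simp [matOf]

omit [CharP F 2] in
theorem dec_zero (a : ℕ) : dec D ω (a, 0) = matOf D F a := by simp [dec, matOf_zero]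

theorem dec_xor (a b c d : ℕ) : dec D ω (a ^^^ c, b ^^^ d) = dec D ω (a, b) + dec D ω (c, d) := by
  simp only [dec, matOf_xor, smul_add]; abel

include hω hN hn ho hi

theorem wm_eq {β : Type} : ∀ (u : List ℕ) (k : ℕ → ℕ → β), ∃ c d, wm o n i Ms u k = k c d ∧ dec D ω (c, d) = (u.map (ltr D ω Ms)).prod
  | [], k => ⟨i, 0, rfl, by subst hn hi; rw [dec_zero, matOf_idm hN]; rfl⟩
  | x :: u, k => by
    obtain ⟨c, d, h1, h2⟩ := wm_eq u fun c d => mul4 o n (nth (i, 0) Ms x) c d k
    subst hn ho hi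
    refine ⟨_, _, h1.trans (by simp only [mul4, force_eq]; rfl), ?_⟩
    have h3 : ∀ A : Matrix D.Idx D.Idx F, A + A = 0 := fun A => by ext; simp [CharTwo.add_self_eq_zero]
    rw [List.map_cons, List.prod_cons, ← h2, ltr]
    generalize nth _ Ms x = A
    change matOf D F (_ ^^^ _) + ω • matOf D F (_ ^^^ mulB _ _ (_ ^^^ _) (_ ^^^ _)) = _
    simp only [dec, matOf_xor, matOf_mulB hN, add_mul, mul_add, smul_add, smul_mul_assoc, mul_smul_comm, smul_smul, hω, add_smul, one_smul]
    rw [← sub_eq_zero, ← h3 (ω • (matOf D F A.1 * matOf D F c))]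
    abel

theorem sm_eq {β : Type} : ∀ (W : List (List ℕ)) (k : ℕ → ℕ → β), ∃ c d, sm o n i Ms W k = k c d ∧
    dec D ω (c, d) = (W.map fun u => (u.map (ltr D ω Ms)).prod).sum
  | [], k => ⟨0, 0, rfl, by rw [dec_zero, matOf_zero]; rfl⟩
  | u :: W, k => by
    obtain ⟨a, b, h1, h2⟩ := sm_eq W fun a b => wm o n i Ms u fun c d =>
      force (Nat.xor a c) fun x => force (Nat.xor b d) fun y => k x y
    obtain ⟨c, d, h3, h4⟩ := wm_eq hω hN hn ho hi (Ms := Ms) u fun c d =>
      force (Nat.xor a c) fun x => force (Nat.xor b d) fun y => k x y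
    refine ⟨a ^^^ c, b ^^^ d, h1.trans (h3.trans (by simp only [force_eq]; rfl)), ?_⟩
    rw [dec_xor, h2, h4, List.map_cons, List.sum_cons, add_comm]

theorem sum_eq {W : List (List ℕ)} {A : ℕ × ℕ} (h : sumB o n i Ms W A = true) :
    (W.map fun u => (u.map (ltr D ω Ms)).prod).sum = dec D ω A := by
  obtain ⟨a, b, h1, h2⟩ := sm_eq hω hN hn ho hi (Ms := Ms) W fun a b =>
    Bool.rec (motive := fun _ => Bool) false (Nat.beq b A.2) (Nat.beq a A.1)
  rw [sumB, h1] at h
  cases h3 : Nat.beq a A.1 <;> rw [h3] at h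
  · cases h
  rw [← h2, Nat.eq_of_beq_eq_true h3, Nat.eq_of_beq_eq_true h]

theorem ev_eq {m : ℕ → GL D.Idx F} (hm : ∀ x, (m x : Matrix D.Idx D.Idx F) = ltr D ω Ms x) {u : List ℕ} {A : ℕ × ℕ}
    (h : sumB o n i Ms [u] A = true) : (ev m u : GL D.Idx F) = dec D ω A := by
  rw [← sum_eq hω hN hn ho hi h, ← funext hm]
  simpa [ev, Function.comp_def] using map_list_prod (Units.coeHom _) (u.map m)

end Cfsg.Agent.H17.B4
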