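import Cfsg.Prelude.Def_E6

/-! The cubic form in 27 variables: tables, polarisation, root elements. -/

set_option autoImplicit false
set_option maxRecDepth 100000
open Matrix Finset

namespace Cfsg.Agent.H17.Cub

abbrev I := Fin 27
def gp (w X i : ℕ) : ℕ := Nat.mod (Nat.shiftRight X (Nat.mul w i)) (Nat.shiftLeft 1 w)
def fi (X i : ℕ) : I := Fin.ofNat 27 (gp 5 X i)
def zi (X i : ℕ) : ℤ := Int.subNatNat (Nat.mod (gp 2 X i) 2) (Nat.div (gp 2 X i) 2)
def cd (i j : ℕ) : ℕ := Nat.add (Nat.mul 27 i) j
def A (t : Fin 45) : I := fi 0x8420e7398c6294a4210631884208420002949ce525ad4a4a44208400 t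
def B (t : Fin 45) : I := fi 0x1183dcd62d498c1ee6b16a4c60f7358b526d5bd6f66b1cc7348328ca4 t
def C (t : Fin 45) : I := fi 0x1abd357a6af4cda79b4f369e2b2c5658acb19c6b3a7c1f1844c7320e8 t
def σ (t : Fin 45) : ℤ := zi 0x2aaaaaaaaaaaaa969969969 t
def th (i j : I) : I := fi 0x12982b640007000c0045cb000000000004814a82e50008000c000001172c00000009d016b8040004000000000000045cb04a6000018c810001c003020d5000000012050000601a014002000300000835400027400000ce8001000100000000000020d502b6063200000040007000cf6240000000a82f806800000050008000c0003d8900016b833a000000004000400000000000f625051000000000000095018dd0019003000000041440000000240b601d7002c00540000000001051000052c0d7028004c00900072040000000025400000f8034006400c000001c810000902c0003c1105c00b001500000000072054b0000084400a00130024030c00000000018d03e0000000d001900300000c300000601cf0440000017002c0054000000030c0d70211000000028004c00944008000f00357a00000000000000080647000d0018000000d5e800000000002180ab00140024000000000357a000008804280110020003c19b4c00000000002000006381c00340060000066d300000008000180802c00500090000000019b4c22000003a000044008000fc56400000000064018e0000007000d001800031590000180a6020000000b001400240000000c5644280e800000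 (cd i j)
def sg (i j : I) : ℤ := zi 0x18982082a0000214a082002a00062482080002a240188208a80012021208200a80900608208000a862400820aa00085200208202a01890008208002aa80000189820800a800214a0820000a8062482082a00024018820802a01202120820002a900608208a80006240082080a80852002082000a989000820a0820a80000189820800a800214a0820000a8062420822a00024018820802a01202120820002a900602082a80006240082080a80852002082000a98900 (cd i j)
def ix (i j : I) : Fin 45 := Fin.ofNat 45 (gp 6 0xc38038cb0002900098002ca6600000000000000d01040036300080001d00000002381d0000000003d10113c068001700050000000000001a5d400d3c000000f340ac0028000940ae894000000000c01100001100c0220007c001c00000089f70000039000000040e0006400160004c00000000006564c0411011400000000a8002700092a9e40000000003803cf00e00000002100078001b00002179b00000c34034c000000000600015000480000000018552b23680000000000000006200206b00023000680000000ae264000000000700a2801eb000880019000000000000aa160000024b00b240a800210006000298170000000000072400000091c0a400200005c00000287d600000600b00000b0060280007c001600000000002779520a0000002880009c001e00054099d50000000000028b00b28000000098001d00050000095c4c000020024900800000002500070001300000000091b4861c01c600000000090001b0004ac000ac002a000b2ba80000000000000000080080a400280009c0000000a689c00000000010041000660009400240000000000009a59000000c50050c00230008800210238a10000000000010c000000304080001f0007800000207de00000000500000500001d00070001b00000000001d71b08400000010200001a0006400186996000000000001050051000000005c00160005400005d65400000800c30020000000140004c0012000000000513480040040000000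 (cd i j))
def rt (i j : I) : Fin 72 := Fin.ofNat 72 (gp 7 0x5c0520000980000080f80386c00d1800000081c93168fcc8000012000098000305c0152800509081c90000014ad791a38000012000098045880214100ddb3168fd4ad780000046000005c05280008001e3800d0d002c000000c31160cdf004600c8000012803000b15004c500100c311000002858ec000471a38000012c5010e10080dc03560cdf2858ec000008400044000005c04f9e006cd00182c000000010520bd93d00840004400c80005cb00284c009100010520000004eadd000084000451a380890c0418001b3500bd93d4eadd000000000009d78250c01804684e800038000002cd00104c035809d782000002962112004400e800038000186c0092801b4150c01a9621000000992800000e80003800d380051500de10000015b20ab198654000004684780002c01e1000b35010d5b20a000005ad0380540120044007801800f89005db0088b19865ad038000000005499280000078d008050030dc045000003a7a41dbe22e400070000004684d1e004cb00810c03a7a4000000f1f9200e40007001200446cf80285c0418801dbe22f1f92000000000e400070992803880015300214500021960110b808a6000000f1dba5ab158054e4c800118000010098082500422af1dba0000029509ce807000c8001180006a200361201b8a5ab15a9509c00000387800000c80011a1803d1001f8a010000001fbe7ad19b25c0000054e6380010001a8200dc20071fbe7a0000062c17805c00e8070023806a005b60031b801ad19b262c178000000005c3878000023963c00b9f0061000000001222403860a04000000000054e499a0050d802a700122240000001018200040000000e807020580123000a1a003860a10182000000000040000038780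 (cd i j))
def ρ (r : ℕ) (k : I) : I := fi 0x6000a80120000000000000000000029078002a0048000000000000000000000839800000002a015c0000000000000000009600002a00000240c000000000000000014d2a000000000025500000000000000002dc000000010e000015c0000000000000903c00010e00000000240c00000000000140810e0000000000000255000000000002c11000004800a010002800000000c00000034048000001600100028000000150000005c0a001600000001000280000024000000a00004800a000e0020000000000000c00194800000160000e0020000000000015002ca0016000000000e002000000000024004c00000000000b5240000000001000140010000000000000002d490000001c002000100000000660000000015c00000000063c0000066000000000000240c00000000d800660000000000000000025500000001d10000003000680600000028000c000000340030000000e0006000000280150000005c006800e0000000060000002824000000a0000001e0040000006001000c000000340001e0000008800000060010150000005c00040008800000000000600124000000a0000d00170028000000000000148300000000000300068006000000200000000c0019030000000e00006000000200000015002c06800e000000000600000020000024004c0000000000007358000000001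00014001000003c0080000000c001c00000180032003c000001100000000c001c00002a005800800110000000000000c001c0004800980000000006b387800c0012000000000000000000000bdaa07800c00120000000000000000d67000020003400500000000000000bdaa0000000022003800580000000000000002939000000200034005000000000002939000000000044007000b00000000000000000000116fa00000000004b0000000000000114000501a000000000a68000000001140000000052e0000000016e000000000000000000000023078000380040002000000000000900005f400000903c0000000000000900000000a0340001408000000000090000000000000a5c0002c1100000003200580098000000000000000008398000000000002022d900000000000000960000000020200004c1900000000000014d00002020000000004ec0000000000002dc00000000000080e0002d9000000000903c0000000080e00000004c19000000014080000080e0000000000004ec00000002c1100000000004800a080020000000019003400000048000001600800200000002c005c000000a0016000000080020000004c00a00000000000000000000000e6b00600060000000000000000000000023079800180000000000000000600000005f4063c000000000000000600000000000a034d800000000000060000000000000000a5dd10000000000000000000600000002d90000063c000000000006000000000004c190000d800000000600000000000000004ec0001d10000000000030006800000002000190034000000030000000e0000000002002c005c00000006800e00000000000000204c00a000000000001e00400000000080190034000000001e0000008800000000082c005c0000000040008800000000000000cc00a000000000d0017002800000000000104000000000019002c004c0000000000000004100000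 (cd r k)
def sT : ℕ := 0x20820000000055041000000002a00092400000024090048000000990000900000024001801800002101800084000085800000600002100812040004008800410800200120400204004008042042000004240080810000205080004200004200001500008208000002a001041000600018000600600000840018600000006000600108800408004100204008100204200080048004004200420800404008008110020108000042800408208000015000020410020008120010200100108810001002008100000a8000410401080042001081002000810081042000004201080002a410400000000548208000000540820800000540008208000000540082080000a80001041000000009900009000006021000180009000240009000000000a8041040000601802100000900048048000600000602100082080000001500001290000024002102100000601200024000024000048090001200084002100084048000024001200008181000204004008810008100204008100204000000002a104100000000560820000240024900000180000858000240000009900000021000600600012000012024021000000180600002050020204001002100208100081001002204000042010810800080040108420001080001090800041040000a80002082000000540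
def s (r : ℕ) (k : I) : ℤ := zi sT (cd r k)

def P (t : Fin 45) (i j : I) : Prop :=
  i = A t ∧ j = B t ∨ i = A t ∧ j = C t ∨ i = B t ∧ j = A t ∨ i = B t ∧ j = C t ∨ i = C t ∧ j = A t ∨ i = C t ∧ j = B t
instance (t : Fin 45) (i j : I) : Decidable (P t i j) := by unfold P; infer_instance
def Q (t : Fin 45) (i j k : I) : Prop := ix i j = t ∧ sg i j = σ t ∧ th i j = k
instance (t : Fin 45) (i j k : I) : Decidable (Q t i j k) := by unfold Q; infer_instance

theorem hA : ∀ t, A t ≠ B t ∧ A t ≠ C t ∧ B t ≠ C t ∧ σ t ≠ 0 := by decide +kernel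
theorem hQ : ∀ t, Q t (A t) (B t) (C t) ∧ Q t (A t) (C t) (B t) ∧ Q t (B t) (A t) (C t) ∧ Q t (B t) (C t) (A t) ∧
    Q t (C t) (A t) (B t) ∧ Q t (C t) (B t) (A t) := by decide +kernel
theorem hP : ∀ i j, sg i j = 0 ∨ P (ix i j) i j := by decide +kernel
theorem hs : ∀ i j, sg i j = 0 ∨ (sg i j * sg i j = 1 ∧ sg i (th i j) = sg i j ∧ th i (th i j) = j) := by decide +kernel
theorem h0 : ∀ i, sg i i = 0 := by decide +kernel
theorem h3 : ∀ c t, sg c (A t) = 0 ∨ sg c (B t) = 0 ∨ sg c (C t) = 0 := by decide +kernel
theorem hE : ∀ (r : Fin 72) k, s r k * s r (ρ r k) = 0 := by decide +kernel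
theorem hE2 : ∀ (r : Fin 72) t, s r (A t) * s r (B t) = 0 ∧ s r (A t) * s r (C t) = 0 ∧ s r (B t) * s r (C t) = 0 := by
  decide +kernel
theorem hr : ∀ c w, w ≠ c → sg c w = 0 → ρ (rt c w) w = c ∧ s (rt c w) w * s (rt c w) w = 1 ∧
    ∀ k, k ≠ w → sg c k = 0 → s (rt c w) k = 0 := by decide +kernel

abbrev Mo := ℤ × I × I × I
def srt (c : ℤ) (a b d : I) : Mo :=
  if a ≤ b then (if b ≤ d then (c, a, b, d) else if a ≤ d then (c, a, d, b) else (c, d, a, b))
  else if a ≤ d then (c, b, a, d) else if b ≤ d then (c, b, d, a) else (c, d, b, a)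
def canc : ℕ → List Mo → Bool
  | _, [] => true
  | 0, _ => false
  | n + 1, m :: L => decide ((-m.1, m.2) ∈ L) && canc n (L.erase (-m.1, m.2))
def dl (r : ℕ) (t : Fin 45) : List Mo :=
  [srt (σ t * s r (C t)) (A t) (B t) (ρ r (C t)), srt (σ t * s r (B t)) (A t) (ρ r (B t)) (C t),
    srt (σ t * s r (A t)) (ρ r (A t)) (B t) (C t)]
theorem hD : ∀ r : Fin 72, canc 15 (((List.finRange 45).flatMap (dl r)).filter fun m => m.1 ≠ 0) = true := by
  decide +kernel

def e : I ≃ Lie.I27 := (finProdFinEquiv.symm : Fin (3 * (3 * 3)) ≃ _).trans ((Equiv.refl _).prodCongr finProdFinEquiv.symm)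
theorem hL : List.ofFn (fun t => (σ t, e (A t), e (B t), e (C t))) =
    [(1, (0, 0, 0), (0, 1, 1), (0, 2, 2)), (-1, (0, 0, 0), (0, 1, 2), (0, 2, 1)), (-1, (0, 0, 1), (0, 1, 0), (0, 2, 2)), (1, (0, 0, 1), (0, 1, 2), (0, 2, 0)), (1, (0, 0, 2), (0, 1, 0), (0, 2, 1)), (-1, (0, 0, 2), (0, 1, 1), (0, 2, 0)), (1, (1, 0, 0), (1, 1, 1), (1, 2, 2)), (-1, (1, 0, 0), (1, 1, 2), (1, 2, 1)), (-1, (1, 0, 1), (1, 1, 0), (1, 2, 2)), (1, (1, 0, 1), (1, 1, 2), (1, 2, 0)), (1, (1, 0, 2), (1, 1, 0), (1, 2, 1)), (-1, (1, 0, 2), (1, 1, 1), (1, 2, 0)), (1, (2, 0, 0), (2, 1, 1), (2, 2, 2)), (-1, (2, 0, 0), (2, 1, 2), (2, 2, 1)), (-1, (2, 0, 1), (2, 1, 0), (2, 2, 2)), (1, (2, 0, 1), (2, 1, 2), (2, 2, 0)), (1, (2, 0, 2), (2, 1, 0), (2, 2, 1)), (-1, (2, 0, 2), (2, 1, 1), (2, 2, 0)), (-1, (0, 0, 0), (1, 0, 0), (2, 0, 0)), (-1, (0, 0, 0), (1, 0, 1), (2, 1, 0)), (-1, (0, 0, 0), (1, 0, 2), (2, 2, 0)), (-1, (0, 0, 1), (1, 1, 0), (2, 0, 0)), (-1, (0, 0, 1), (1, 1, 1), (2, 1, 0)), (-1, (0, 0, 1), (1, 1, 2), (2, 2, 0)), (-1, (0, 0, 2), (1, 2, 0), (2, 0, 0)), (-1, (0,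 0, 2), (1, 2, 1), (2, 1, 0)), (-1, (0, 0, 2), (1, 2, 2), (2, 2, 0)), (-1, (0, 1, 0), (1, 0, 0), (2, 0, 1)), (-1, (0, 1, 0), (1, 0, 1), (2, 1, 1)), (-1, (0, 1, 0), (1, 0, 2), (2, 2, 1)), (-1, (0, 1, 1), (1, 1, 0), (2, 0, 1)), (-1, (0, 1, 1), (1, 1, 1), (2, 1, 1)), (-1, (0, 1, 1), (1, 1, 2), (2, 2, 1)), (-1, (0, 1, 2), (1, 2, 0), (2, 0, 1)), (-1, (0, 1, 2), (1, 2, 1), (2, 1, 1)), (-1, (0, 1, 2), (1, 2, 2), (2, 2, 1)), (-1, (0, 2, 0), (1, 0, 0), (2, 0, 2)), (-1, (0, 2, 0), (1, 0, 1), (2, 1, 2)), (-1, (0, 2, 0), (1, 0, 2), (2, 2, 2)), (-1, (0, 2, 1), (1, 1, 0), (2, 0, 2)), (-1, (0, 2, 1), (1, 1, 1), (2, 1, 2)), (-1, (0, 2, 1), (1, 1, 2), (2, 2, 2)), (-1, (0, 2, 2), (1, 2, 0), (2, 0, 2)), (-1, (0, 2, 2), (1, 2, 1), (2, 1, 2)), (-1, (0, 2, 2), (1, 2, 2), (2, 2, 2))] := by decide +kernel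

variable {F : Type*} [Field F]

def T (x : I → F) : F := ∑ t, (σ t : F) * (x (A t) * x (B t) * x (C t))
def q (x y : I → F) : F :=
  ∑ t, (σ t : F) * (x (A t) * x (B t) * y (C t) + x (A t) * y (B t) * x (C t) + y (A t) * x (B t) * x (C t))
def f (x y z : I → F) : F := ∑ t, (σ t : F) * (x (A t) * y (B t) * z (C t) + x (A t) * y (C t) * z (B t) +
  x (B t) * y (A t) * z (C t) + x (B t) * y (C t) * z (A t) + x (C t) * y (A t) * z (B t) + x (C t) * y (B t) * z (A t))

theorem T_eq (v : Lie.I27 → F) : Lie.cubicT v = T (v ∘ e) := by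
  have : T (v ∘ e) = ((List.ofFn fun t => (σ t, e (A t), e (B t), e (C t))).map
      fun m => (m.1 : F) * (v m.2.1 * v m.2.2.1 * v m.2.2.2)).sum := by
    rw [T, ← List.sum_ofFn, List.map_ofFn]; rfl
  rw [this, hL]
  simp [Lie.cubicT, Lie.mat3, det_fin_three, trace, mul_apply, Fin.sum_univ_three]
  ring

theorem T_add (x y : I → F) (c : F) : T (x + c • y) = T x + c * q x y + c ^ 2 * q y x + c ^ 3 * T y := by
  simp only [T, q, mul_sum, ← sum_add_distrib, Pi.add_apply, Pi.smul_apply, smul_eq_mul]
  exact sum_congr rfl fun t _ => by ring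

theorem q_add (x y z : I → F) : q (x + y) z = q x z + q y z + f x y z := by
  simp only [f, q, ← sum_add_distrib, Pi.add_apply]
  exact sum_congr rfl fun t _ => by ring

theorem f_swap (x y z : I → F) : f x y z = f x z y := sum_congr rfl fun t _ => by ring

theorem f_single (i j : I) (z : I → F) : f (Pi.single i 1) (Pi.single j 1) z = sg i j * z (th i j) := by
  have h1 : ∀ t, ¬ P t i j → ∀ a b, P t a b → (Pi.single i 1 : I → F) a * (Pi.single j 1 : I → F) b = 0 :=
    fun t h a b hab => by
      by_cases c : a = i
      · rw [Pi.single_eq_of_ne (M := fun _ => F) (i := j) (i' := b) fun c' => h (c ▸ c' ▸ hab), mul_zero]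
      · rw [Pi.single_eq_of_ne c, zero_mul]
  have h2 : ∀ t, P t i j → t = ix i j := fun t h => by
    obtain ⟨a, b, c, d, e, f⟩ := hQ t
    rcases h with ⟨rfl, rfl⟩ | ⟨rfl, rfl⟩ | ⟨rfl, rfl⟩ | ⟨rfl, rfl⟩ | ⟨rfl, rfl⟩ | ⟨rfl, rfl⟩
    exacts [a.1.symm, b.1.symm, c.1.symm, d.1.symm, e.1.symm, f.1.symm]
  have h4 : ∀ t, ¬ P t i j → (σ t : F) * ((Pi.single i 1 : I → F) (A t) * (Pi.single j 1 : I → F) (B t) * z (C t) +
      (Pi.single i 1 : I → F) (A t) * (Pi.single j 1 : I → F) (C t) * z (B t) +
      (Pi.single i 1 : I → F) (B t) * (Pi.single j 1 : I → F) (A t) * z (C t) +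
      (Pi.single i 1 : I → F) (B t) * (Pi.single j 1 : I → F) (C t) * z (A t) +
      (Pi.single i 1 : I → F) (C t) * (Pi.single j 1 : I → F) (A t) * z (B t) +
      (Pi.single i 1 : I → F) (C t) * (Pi.single j 1 : I → F) (B t) * z (A t)) = 0 := fun t h => by
    rw [h1 t h, h1 t h, h1 t h, h1 t h, h1 t h, h1 t h] <;> simp [P]
  rw [f, sum_eq_single (ix i j) (fun t _ ht => h4 t fun h => ht (h2 t h)) (by simp)]
  by_cases h : P (ix i j) i j
  · generalize ix i j = t at h
    obtain ⟨a, b, c, d, e, f⟩ := hQ t
    obtain ⟨x, y, z, -⟩ := hA t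
    rcases h with ⟨rfl, rfl⟩ | ⟨rfl, rfl⟩ | ⟨rfl, rfl⟩ | ⟨rfl, rfl⟩ | ⟨rfl, rfl⟩ | ⟨rfl, rfl⟩ <;>
      simp [Q, Pi.single_apply, x, y, z, x.symm, y.symm, z.symm, a.2, b.2, c.2, d.2, e.2, f.2]
  · rw [h4 _ h, (hP i j).resolve_right h]; simp

theorem f_zero {a : I} {v : I → F} (h : ∀ m, sg a m ≠ 0 → v m = 0) (w : I → F) : f (Pi.single a 1) v w = 0 := by
  refine sum_eq_zero fun t _ => ?_
  have h1 : ∀ x y k, Q t x y k → (Pi.single a 1 : I → F) x * v y = 0 := fun x y k c => by
    by_cases e : x = a
    · rw [h y (e ▸ c.2.1 ▸ (hA t).2.2.2), mul_zero]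
    · rw [Pi.single_eq_of_ne e, zero_mul]
  obtain ⟨a, b, c, d, e, f⟩ := hQ t
  simp [h1 _ _ _ a, h1 _ _ _ b, h1 _ _ _ c, h1 _ _ _ d, h1 _ _ _ e, h1 _ _ _ f]

theorem q_single (c : I) (y : I → F) : q (Pi.single c 1) y = 0 := by
  refine sum_eq_zero fun t _ => ?_
  obtain ⟨x, y, z, -⟩ := hA t
  by_cases a : A t = c <;> by_cases b : B t = c <;> by_cases d : C t = c <;> simp_all [Pi.single_apply]

theorem sq_ne {a : ℤ} (h : a * a = 1) : (a : F) ≠ 0 := fun e => by
  simpa [e] using congrArg (Int.cast : ℤ → F) h

theorem eq_single {v : I → F} {c : I} (h1 : v c = 1) (h2 : ∀ w, w ≠ c → sg c w = 0 → v w = 0) (h : ∀ y, q v y = 0) :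
    v = Pi.single c 1 := by
  obtain ⟨n, rfl⟩ : ∃ n, v = Pi.single c 1 + n := ⟨v - Pi.single c 1, by simp⟩
  have hn : ∀ w, sg c w = 0 → n w = 0 := fun w hw => by
    by_cases e : w = c
    · simpa [e] using h1
    · simpa [e] using h2 w e hw
  refine add_eq_left.2 (funext fun m => ?_)
  rcases hs c m with e | ⟨e1, e2, e3⟩
  · exact hn m e
  have := h (Pi.single (th c m) 1)
  rw [q_add, q_single, f_swap, f_single, e2, e3, show q n (Pi.single (th c m) 1) = 0 from sum_eq_zero fun t _ => ?_] at this
  · simpa [sq_ne e1] using this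
  have hk : ∀ k, sg c k = 0 → (Pi.single (th c m) 1 : I → F) k = 0 := fun k hk =>
    Pi.single_eq_of_ne (fun e => by rw [e, e2] at hk; simp [hk] at e1) _
  obtain ⟨x, y, z, -⟩ := hA t
  rcases h3 c t with e | e | e
  · by_cases b : sg c (B t) = 0 <;> simp [hn _ e, hk _ e]
  · simp [hn _ e, hk _ e]
  · simp [hn _ e, hk _ e]

/-- matrices with one entry in each row -/
def mono (ρ : I → I) (s : I → ℤ) : Matrix I I F := of fun k j => if j = ρ k then (s k : F) else 0

theorem mono_mulVec (ρ : I → I) (s : I → ℤ) (v : I → F) (k : I) : (mono ρ s *ᵥ v) k = s k * v (ρ k) := by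
  simp [mono, mulVec, dotProduct]

theorem mono_mul (ρ ρ' : I → I) (s s' : I → ℤ) :
    (mono ρ s * mono ρ' s' : Matrix I I F) = mono (fun k => ρ' (ρ k)) fun k => s k * s' (ρ k) := by
  ext k j
  exact (mono_mulVec ρ s (fun l => (mono ρ' s' : Matrix I I F) l j) k).trans (by simp [mono])

theorem mono_zero {ρ : I → I} {s : I → ℤ} (h : ∀ k, s k = 0) : (mono ρ s : Matrix I I F) = 0 := by
  ext k j; simp [mono, h]

def En (r : ℕ) : Matrix I I F := mono (ρ r) (s r)

theorem En_sq (r : Fin 72) : (En r * En r : Matrix I I F) = 0 := by rw [En, mono_mul, mono_zero (hE r)]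

theorem x_aux (r : Fin 72) (t : F) : (1 + t • En r) * (1 + (-t) • En r) = (1 : Matrix I I F) := by
  simp [mul_add, add_mul, En_sq]

/-- the root elements -/
def x (r : Fin 72) (t : F) : GL I F := ⟨1 + t • En r, 1 + (-t) • En r, x_aux r t, by simpa using x_aux r (-t)⟩

theorem x_mulVec (r : Fin 72) (t : F) (v : I → F) : (x r t : Matrix I I F) *ᵥ v = v + t • En r *ᵥ v := by
  simp [x, add_mulVec, smul_mulVec]

theorem canc_sound (g : Mo → F) (hg : ∀ m : Mo, g (-m.1, m.2) = -g m) : ∀ n L, canc n L = true → (L.map g).sum = 0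
  | _, [], _ => rfl
  | 0, _ :: _, h => by simp [canc] at h
  | n + 1, m :: L, h => by
    simp only [canc, Bool.and_eq_true, decide_eq_true_eq] at h
    rw [List.map_cons, List.sum_cons, ((List.perm_cons_erase h.1).map g).sum_eq, List.map_cons, List.sum_cons,
      canc_sound g hg n _ h.2, hg]; simp

theorem q_En (r : Fin 72) (v : I → F) : q v (En r *ᵥ v) = 0 := by
  let g : Mo → F := fun m => m.1 * (v m.2.1 * v m.2.2.1 * v m.2.2.2)
  have h1 : ∀ c a b d, g (srt c a b d) = c * (v a * v b * v d) := fun c a b d => by
    unfold srt; split_ifs <;> simp only [g] <;> ring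
  have h2 : ∀ L : List Mo, ((L.filter fun m => m.1 ≠ 0).map g).sum = (L.map g).sum := fun L => by
    induction L with
    | nil => rfl
    | cons m L ih => by_cases e : m.1 = 0 <;> simp_all [g]
  have h3 : ∀ L : List (Fin 45), ((L.flatMap (dl r)).map g).sum = (L.map fun t => ((dl r t).map g).sum).sum := fun L => by
    induction L with
    | nil => rfl
    | cons m L ih => simp_all
  rw [← canc_sound g (fun m => by simp [g]) _ _ (hD r), h2, h3, ← Fin.sum_univ_def]
  exact sum_congr rfl fun t _ => by simp [dl, h1, En, mono_mulVec]; ring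

variable (F) in
/-- the isometry group -/
def G : Subgroup (GL I F) := Lie.funStab F T

theorem mem_G {g : GL I F} : g ∈ G F ↔ ∀ v, T ((g : Matrix I I F) *ᵥ v) = T v := Iff.rfl

theorem x_mem (r : Fin 72) (t : F) : x r t ∈ G F := mem_G.2 fun v => by
  have h := fun t => hE2 r t
  have h1 : ∀ a b, s r a * s r b = 0 → (En r *ᵥ v) a * (En r *ᵥ v) b = 0 := fun a b c => by
    have := congrArg (Int.cast : ℤ → F) c
    simp only [En, mono_mulVec, Int.cast_mul, Int.cast_zero] at this ⊢
    linear_combination v (ρ r a) * v (ρ r b) * this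
  rw [x_mulVec, T_add, q_En, show q (En r *ᵥ v) v = 0 from sum_eq_zero fun t _ => by
      linear_combination σ t * (v (C t) * h1 _ _ (h t).1 + v (B t) * h1 _ _ (h t).2.1 + v (A t) * h1 _ _ (h t).2.2),
    show T (En r *ᵥ v) = 0 from sum_eq_zero fun t _ => by rw [h1 _ _ (h t).1]; simp]
  simp

theorem q_inv {a : F} (ha : a ≠ 0 ∧ a ≠ 1) {g : GL I F} (hg : g ∈ G F) (x y : I → F) :
    q ((g : Matrix I I F) *ᵥ x) ((g : Matrix I I F) *ᵥ y) = q x y := by
  have h := fun c : F => mem_G.1 hg (x + c • y)
  simp only [mulVec_add, mulVec_smul, T_add, mem_G.1 hg] at h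
  refine mul_left_cancel₀ (mul_ne_zero ha.1 (sub_ne_zero.2 ha.2)) ?_
  linear_combination a ^ 2 * h 1 - h a

theorem f_inv {a : F} (ha : a ≠ 0 ∧ a ≠ 1) {g : GL I F} (hg : g ∈ G F) (x y z : I → F) :
    f ((g : Matrix I I F) *ᵥ x) ((g : Matrix I I F) *ᵥ y) ((g : Matrix I I F) *ᵥ z) = f x y z := by
  have h := q_inv ha hg (x + y) z
  rw [mulVec_add, q_add, q_add, q_inv ha hg, q_inv ha hg] at h
  exact add_left_cancel h

end Cfsg.Agent.H17.Cub
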