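import Cfsg.Agent.H17.E6D
import Cfsg.Agent.H17.Fi22O7
import Cfsg.Agent.H14.Reg

/-! Three classes of `Fi₂₂` and of `Ω₇(3)` in `²E₆(2)`. -/

set_option autoImplicit false

namespace Cfsg.Agent.H17

open Subgroup Matrix

theorem three_cls {Γ A : Type*} [Group Γ] [Group A] {G : Subgroup Γ} {D : Γ} (hD : ∀ g ∈ G, D * g * D⁻¹ ∈ G) (h3 : D ^ 3 = 1)
    (φ : A →* Γ) (hφ : Function.Injective φ) (hG : ∀ a, φ a ∈ G) (hA : Nat.card (Out A) = 2)
    (hC : ∀ y, (∀ a, Commute y (φ a)) → y ∈ center Γ) (hN : D ∉ G ⊔ center Γ) :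
    ∃ H : Fin 3 → Subgroup G, (∀ i, Nonempty (H i ≃* A)) ∧
      ∀ i j, i ≠ j → ∀ g : G, (H i).map (MulAut.conj g).toMonoidHom ≠ H j := by
  have a1 : ∀ k : ℕ, ∀ g ∈ G, D ^ k * g * (D ^ k)⁻¹ ∈ G := fun k => by
    induction k with
    | zero => simp
    | succ k ih => exact fun g hg => by simpa [pow_succ', mul_assoc] using hD _ (ih g hg)
  let ψ : Fin 3 → A →* G := fun i => ((MulAut.conj (D ^ (i : ℕ))).toMonoidHom.comp φ).codRestrict G fun a => a1 _ _ (hG a)
  have a2 : ∀ i, Function.Injective (ψ i) := fun i a b h => hφ ((MulAut.conj _).injective (congrArg Subtype.val h))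
  refine ⟨fun i => (ψ i).range, fun i => ⟨(MonoidHom.ofInjective (a2 i)).symm⟩, fun i j hij g h => hN ?_⟩
  let α : MulAut A := (MonoidHom.ofInjective (a2 i)).trans ((((ψ i).range.equivMapOfInjective _ (MulAut.conj g).injective).trans
    (MulEquiv.subgroupCongr h)).trans (MonoidHom.ofInjective (a2 j)).symm)
  let x : Γ := D ^ (2 * j : ℕ) * g * D ^ (i : ℕ)
  have a3 : (D ^ (j : ℕ))⁻¹ = D ^ (2 * j : ℕ) := by
    rw [inv_eq_iff_mul_eq_one, ← pow_add, show (j : ℕ) + 2 * j = 3 * j by ring, pow_mul, h3, one_pow]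
  have a4 : ∀ a, φ (α a) = x * φ a * x⁻¹ := fun a => by
    have : D ^ (j : ℕ) * φ (α a) * (D ^ (j : ℕ))⁻¹ = g * (D ^ (i : ℕ) * φ a * (D ^ (i : ℕ))⁻¹) * (g : Γ)⁻¹ :=
      congrArg (fun y : (ψ j).range => ((y : G) : Γ)) ((MonoidHom.ofInjective (a2 j)).apply_symm_apply _)
    rw [mul_inv_eq_iff_eq_mul, ← eq_inv_mul_iff_mul_eq] at this
    simp only [this, x, ← a3]
    group
  obtain ⟨b, hb⟩ : α ^ 2 ∈ Inn A := by
    rw [← QuotientGroup.eq_one_iff, QuotientGroup.mk_pow, ← hA, pow_card_eq_one']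
  have a5 : x * x ∈ G ⊔ center Γ := by
    rw [← mul_inv_cancel_left (φ b) (x * x)]
    refine mul_mem_sup (hG b) (hC _ fun a => ?_)
    have := congrArg (fun β : MulAut A => φ (β a)) hb
    simp only [pow_two, MulAut.mul_apply, a4, MulAut.conj_apply, map_mul, map_inv] at this
    rw [Commute, SemiconjBy, mul_assoc, inv_mul_eq_iff_eq_mul, ← mul_assoc (φ b), ← mul_assoc (φ b * φ a), this]
    group
  have a6 : D ^ (2 * (2 * j + i) : ℕ) ∈ G ⊔ center Γ := by
    have := mul_mem (inv_mem (mem_sup_left (T := center Γ) (mul_mem (a1 (2 * j) _ g.2) (a1 (2 * j + i + 2 * j) _ g.2)))) a5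
    convert this using 1
    simp only [x, ← zpow_natCast]
    push_cast
    group
  have a7 : ∀ k : ℕ, D ^ k = D ^ (k % 3) := fun k => pow_eq_pow_mod k h3
  have := pow_mem a6 (2 * (2 * j + i))
  rwa [← pow_mul, a7, (by decide : ∀ i j : Fin 3, i ≠ j → (2 * (2 * j + i) * (2 * (2 * j + i)) : ℕ) % 3 = 1) i j hij,
    pow_one] at this

theorem Presents.lift' {G : Type*} [Group G] {k nc : ℕ} {R : List (List ℕ)} {g : ℕ → G} (h : Presents k nc R g) {M : Type*} [Group M]
    [Finite M] {f : ℕ → M} (h1 : Inv k f) (h2 : ∀ x, nc ≤ x → f x = 1) (h3 : Sat f R) : ∃ φ : G →* M, ∀ x, φ (g x) = f x := by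
  let e : Shrink.{0} M ≃* M := Shrink.mulEquiv
  obtain ⟨φ, hφ⟩ := h.lift _ (fun x => e.symm (f x)) (h1.map e.symm.toMonoidHom fun _ => rfl) (fun x hx => by simp [h2 x hx])
    (h3.map e.symm.toMonoidHom fun _ => rfl)
  exact ⟨e.toMonoidHom.comp φ, fun x => by simp [hφ]⟩

section
variable {ι F : Type*} [Fintype ι] [DecidableEq ι] [Field F] {X : Matrix ι ι F} {f : ℕ → Matrix ι ι F}

theorem eig_of {θ V R U : Matrix ι ι F} (j : ι) (h0 : Commute X θ) (h1 : θ * V = 0) (h2 : R * θ + V * U = 1)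
    (h3 : V * single j j 1 = V) : ∃ c : F, X * V = c • V := by
  refine ⟨(U * X * V) j j, ?_⟩
  have h4 : X * V = V * (U * X * V) := by
    rw [← Matrix.one_mul (X * V), ← h2, add_mul, mul_assoc R, ← mul_assoc θ, ← h0.eq, mul_assoc X, h1]; simp [mul_assoc]
  have h5 : X * V = V * (single j j 1 * (U * X * V) * single j j 1) := by
    rw [← mul_assoc, ← mul_assoc, h3, ← h4, mul_assoc, h3]
  rw [h5, single_mul_mul_single, one_mul, ← smul_eq_mul ((U * X * V) j j), ← smul_single, mul_smul_comm, h3]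

theorem eig_step {c : F} {u : List ℕ} {p s : ℕ} {Y : Matrix ι ι F} (h : ([[p], u ++ [p, s]].map fun u => (u.map f).prod).sum = Y)
    (hu : ∀ x ∈ u, Commute X (f x)) (hp : X * f p = c • f p) : X * Y = c • Y := by
  have := Commute.list_prod_right (u.map f) X (by simpa using hu)
  simp only [← h, List.map_cons, List.map_append, List.prod_append, List.prod_cons, List.sum_cons, List.map_nil, List.prod_nil,
    List.sum_nil, mul_one, add_zero, mul_add, smul_add, hp]
  rw [← mul_assoc, this.eq, mul_assoc, ← mul_assoc X, hp]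
  simp

end

namespace E6

open B4 H14 H15 Cfsg.Lie

variable {K : Type*} [Field K] [CharP K 2] {ω : K} (hω : ω * ω = ω + 1)
include hω

theorem scalar {X : Matrix chevE6.Idx chevE6.Idx K} (h : ∀ x < 9, x ≠ 0 → Commute X (ltr chevE6 ω Zs x)) : ∃ c : K, X = c • 1 := by
  have S : ∀ {W A}, sumB o 78 i Xs W A = true → _ := sum_eq (D := chevE6) hω (by decide) rfl ho hi
  have e : ∀ x, dec chevE6 ω (nth (i, 0) Xs x) = ltr chevE6 ω Xs x := fun x => by rw [← hi]; rfl
  have e1 : dec chevE6 ω (i, 0) = 1 := by rw [dec_zero, ← hi]; exact matOf_idm (D := chevE6) (by decide)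
  have h' : ∀ u : List ℕ, (∀ x ∈ u, x < 9 ∧ x ≠ 0) → ∀ x ∈ u, Commute X (ltr chevE6 ω Xs x) := fun u hu x hx => by
    rw [← e, cX x (hu x hx).1, ← hi]; exact h x (hu x hx).1 (hu x hx).2
  obtain ⟨c, hc⟩ := eig_of (X := X) (θ := ltr chevE6 ω Xs 9) (V := ltr chevE6 ω Xs 10) (R := ltr chevE6 ω Xs 11)
    (U := ltr chevE6 ω Xs 12) (Sum.inl ⟨0, by decide⟩)
    (by rw [← e, ← S c0]
        exact Commute.list_sum_right _ _ (List.forall_mem_map.2 fun u hu => Commute.list_prod_right _ _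
          (List.forall_mem_map.2 (h' u (by revert u; decide)))))
    (by simpa [dec_zero, matOf_zero] using S c1) (by simpa [e1] using S c2) (by
      have := S c3
      rw [e] at this
      convert this using 1
      simp only [List.map_cons, List.prod_cons, List.sum_cons, List.map_nil, List.prod_nil, List.sum_nil, mul_one, add_zero]
      congr 1
      rw [← e, show nth (i, 0) Xs 13 = (1, 0) by decide +kernel, dec_zero]
      ext a b
      have : ∀ a : chevE6.Idx, Sum.inl ⟨0, by decide⟩ = a ↔ enc a = 0 := fun a => enc_inj.symm.trans eq_comm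
      simp [matOf, single_apply, this, Nat.testBit_one_eq_true_iff_self_eq_zero])
  have := eig_step ((S d6).trans (e _)) (h' _ (by decide)) (eig_step ((S d5).trans (e _)) (h' _ (by decide))
    (eig_step ((S d4).trans (e _)) (h' _ (by decide)) (eig_step ((S d3).trans (e _)) (h' _ (by decide))
    (eig_step ((S d2).trans (e _)) (h' _ (by decide)) (eig_step ((S d1).trans (e _)) (h' _ (by decide))
    (eig_step ((S d0).trans (e _)) (h' _ (by decide)) hc))))))
  have h4 : ltr chevE6 ω Xs 27 * ltr chevE6 ω Xs 28 = 1 := by simpa [e1] using S c4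
  exact ⟨c, by rw [← h4, ← smul_mul_assoc, ← this, mul_assoc, h4, mul_one]⟩

theorem cD : ∀ p < 78, ∀ q < 78, (nth (i, 0) Gs 8).1.testBit (256 * p + q) =
      (decide (p = q) && decide ((if p < 6 then 0 else tabE6.vec (p - 6) 0 - tabE6.vec (p - 6) 5) % 3 ≠ 1)) ∧
    (nth (i, 0) Gs 8).2.testBit (256 * p + q) =
      (decide (p = q) && decide ((if p < 6 then 0 else tabE6.vec (p - 6) 0 - tabE6.vec (p - 6) 5) % 3 ≠ 0)) := by
  clear hω; decide +kernel

theorem exists_hom [Fintype K] (hK : Fintype.card K = 4) : ∃ (D : GL chevE6.Idx K) (φ : Spor.Fi22 →* GL chevE6.Idx K),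
    (∀ g ∈ twistedE6 K 2, D * g * D⁻¹ ∈ twistedE6 K 2) ∧ D ^ 3 = 1 ∧ Function.Injective φ ∧ (∀ a, φ a ∈ twistedE6 K 2) ∧
    (∀ y, (∀ x < 9, x ≠ 0 → Commute y (φ (Fi22.g x))) → y ∈ center _) ∧ D ∉ twistedE6 K 2 ⊔ center _ := by
  have a4 : ∀ a : Kˣ, a ^ 3 = 1 := fun a => by
    classical
    simpa [Fintype.card_units, hK] using pow_card_eq_one (x := a)
  let a : Kˣ := Units.mk0 ω (by rintro rfl; simp at hω)
  let f : (Fin 6 → ℤ) →ₗ[ℤ] ℤ := LinearMap.proj (R := ℤ) (φ := fun _ => ℤ) 0 - LinearMap.proj (R := ℤ) (φ := fun _ => ℤ) 5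
  let D := goodE6.dgG K (Good.powChar (D := chevE6) a f)
  obtain ⟨Y, hY⟩ : ∃ Y, (goodE6.rg K).toRG0 = Y := ⟨_, rfl⟩
  have b1 : ∀ r t, D * (X6 K).x r t * D⁻¹ = (X6 K).x r ((a ^ (R6.vec r 0 - R6.vec r 5) : Kˣ) * t) := goodE6.dgG_conj K _
  have b2 : ∀ r < 72, ∀ t, D * xN Y r t * D⁻¹ = xN Y r ((a ^ (tabE6.vec r 0 - tabE6.vec r 5) : Kˣ) * t) := fun r hr t => by
    have hr' : r < chevE6.nroots := hr
    rw [xN, xN, dif_pos hr', dif_pos hr', ← hY]
    exact b1 ⟨r, hr⟩ t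
  have b3 : ∀ w ∈ e6Words K 2, wordX Y w ∈ twistedE6 K 2 := fun w hw => by
    rw [twistedE6, genSubgroup_eq goodE6, hY]; exact subset_closure ⟨w, hw, rfl⟩
  have hD : ∀ g ∈ twistedE6 K 2, D * g * D⁻¹ ∈ twistedE6 K 2 := fun g hg => by
    rw [twistedE6, genSubgroup_eq goodE6, hY] at hg
    refine (closure_le (K := (twistedE6 K 2).comap (MulAut.conj D).toMonoidHom)).2 ?_ hg
    rintro _ ⟨_, ⟨t, ht, r, hr, rfl⟩ | ⟨t, r, hr, rfl⟩, rfl⟩
    · obtain ⟨c1, c2⟩ := (by decide +kernel : ∀ r ∈ [e6p2, e6m2, e6p4, e6m4], r < 72 ∧ tabE6.vec r 0 - tabE6.vec r 5 = 0) r hr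
      simpa [b2 r c1, c2] using b3 _ (Or.inl ⟨t, ht, r, hr, rfl⟩)
    · obtain ⟨c1, c2, c3⟩ := (by decide +kernel : ∀ r ∈ [(e6p1, e6p6), (e6m1, e6m6), (e6p3, e6p5), (e6m3, e6m5)], r.1 < 72 ∧ r.2 < 72 ∧
        (tabE6.vec r.2 0 - tabE6.vec r.2 5) % 3 = (tabE6.vec r.1 0 - tabE6.vec r.1 5) * 2 % 3) r hr
      have := b3 _ (Or.inr ⟨(a ^ (tabE6.vec r.1 0 - tabE6.vec r.1 5) : Kˣ) * t, r, hr, rfl⟩)
      rw [mul_pow, ← Units.val_pow_eq_pow_val, ← zpow_natCast, ← _root_.zpow_mul, Nat.cast_ofNat, zpow_eq_zpow_emod (_ * 2) (n := 3) (a4 a), ← c3,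
        ← zpow_eq_zpow_emod _ (n := 3) (a4 a), wordX_cons, wordX_cons, ← b2 _ c1, ← b2 _ c2] at this
      simpa [mul_assoc] using this
  have h3 : D ^ 3 = 1 := by
    rw [← map_pow, ← (goodE6.dgG K).map_one]; exact congrArg _ (MonoidHom.ext fun v => a4 _)
  have e1 : dec chevE6 ω (i, 0) = 1 := by rw [dec_zero, ← hi]; exact matOf_idm (D := chevE6) (by decide)
  let m : ℕ → GL chevE6.Idx K := fun x => if x = 8 then D else wordX Y ((nth [] Wr x).map (·, 1))
  have hm : ∀ x, (m x : Matrix _ _ K) = ltr chevE6 ω Gs x := fun x => by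
    rw [ltr, show idm (chevE6.rank + chevE6.nroots) = i from hi]
    rcases lt_trichotomy x 8 with h | rfl | h
    · simp only [m, h.ne, if_false, ← hY]
      rw [cG x h, dec_zero, matOf_wmat goodE6 bridgeE6 (by decide) (nth_prop (P := fun w : List ℕ => ∀ r ∈ w, r < 72) (by simp) (by decide) x),
        goodE6.wordX_rg,
        ChevalleyDatum.wordMat, List.map_map]
      rfl
    · ext p q
      have := cD hω _ (enc_lt p) _ (enc_lt q)
      have c1 : (if enc p < 6 then 0 else tabE6.vec (enc p - 6) 0 - tabE6.vec (enc p - 6) 5) = f (goodE6.wt p) := by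
        rcases p with p | p
        · exact (if_pos p.2).trans (map_zero f).symm
        · rw [if_neg (show ¬ enc (Sum.inr p) < 6 from (Nat.le_add_right 6 p).not_gt), show enc (Sum.inr p) - 6 = p from Nat.add_sub_cancel_left ..]; rfl
      simp only [m, D, if_true, Good.dgG_val, Good.dg, dec, matOf, Matrix.add_apply, Matrix.smul_apply, of_apply, this, c1, enc_inj,
        diagonal_apply]
      by_cases c2 : p = q
      · rw [if_pos c2]
        change ((a ^ f (goodE6.wt p) : Kˣ) : K) = _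
        rw [zpow_eq_zpow_emod _ (n := 3) (a4 a)]
        rcases (by omega : f (goodE6.wt p) % 3 = 0 ∨ f (goodE6.wt p) % 3 = 1 ∨ f (goodE6.wt p) % 3 = 2) with c | c | c <;> rw [c] <;>
          simp [c2, a, zpow_ofNat, pow_two, hω, add_comm]
      · simp [c2]
    · simp only [m, h.ne', if_false]
      rw [nth_of_ge _ (show Gs.length ≤ x from h), nth_of_ge _ (show Wr.length ≤ x from h.le), e1]; rfl
  have b4 : ∀ u : List ℕ, ev m u * (D ^ u.count 8)⁻¹ ∈ twistedE6 K 2 := fun u => by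
    induction u with
    | nil => simp
    | cons x u ih =>
      by_cases h : x = 8
      · simpa [m, h, pow_succ', mul_assoc] using hD _ ih
      · rw [ev_cons, List.count_cons_of_ne h, mul_assoc]
        refine mul_mem ?_ ih
        simp only [m, h, if_false]
        refine nth_prop (P := fun w : List ℕ => wordX Y (w.map (·, 1)) ∈ twistedE6 K 2) (one_mem _) (fun w hw => b3 _ ?_) x
        simp only [Wr, List.mem_cons, List.not_mem_nil, or_false] at hw
        rcases hw with rfl | rfl | rfl | rfl | rfl | rfl | rfl | rfl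
        iterate 4 exact Or.inl ⟨1, one_pow 2, _, by decide, rfl⟩
        exacts [Or.inr ⟨1, (56, 36), by decide, by simp⟩, Or.inr ⟨1, (15, 35), by decide, by simp⟩,
          Or.inr ⟨1, (42, 37), by decide, by simp⟩, Or.inr ⟨1, (29, 34), by decide, by simp⟩]
  have b5 : ∀ x, sub Wz m x ∈ twistedE6 K 2 := fun x => by
    have := b4 (nth [] Wz x)
    rwa [pow_eq_pow_mod _ h3, nth_prop (P := fun w : List ℕ => w.count 8 % 3 = 0) rfl (by decide) x, pow_zero, inv_one, mul_one] at this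
  have hz : ∀ x, (sub Wz m x).1 = ltr chevE6 ω Zs x := fun x => by
    rw [ltr, show idm (chevE6.rank + chevE6.nroots) = i from hi]
    rcases lt_or_ge x 9 with h | h
    · exact ev_eq (D := chevE6) hω (by decide) rfl ho hi hm (cZ x h)
    · rw [sub_triv m (show Wz.length ≤ x from h), nth_of_ge _ (show Zs.length ≤ x from h), e1]; rfl
  have b6 : Sat (sub Wz m) (invWords 9 9 ++ Fi22.R0) := fun r hr =>
    Units.ext ((ev_eq (D := chevE6) hω (by decide) rfl ho hi hz (allL_true cR r hr)).trans e1)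
  obtain ⟨φ, hφ⟩ := Fi22.pres.lift' (inv_of_sat (nc := 9) rfl le_rfl (fun x => sub_triv (σ := Wz) m) (b6.mono fun _ => List.mem_append_left _))
    (fun x => sub_triv (σ := Wz) m) (b6.mono fun _ => List.mem_append_right _)
  have hC : ∀ y, (∀ x < 9, x ≠ 0 → Commute y (φ (Fi22.g x))) → y ∈ center _ := fun y hy => by
    obtain ⟨c, hc⟩ := scalar hω (X := y.1) fun x h1 h2 => by rw [← hz, ← hφ]; exact congrArg Units.val (hy x h1 h2)
    exact mem_center_iff.2 fun g => Units.ext (by simp [hc])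
  have hN : D ∉ twistedE6 K 2 ⊔ center _ := fun h => by
    obtain ⟨g, hg, c, hc, e⟩ := mem_sup_of_normal_right.1 h
    obtain ⟨S, hS⟩ := exists_E6 (K := K) (q := 2) Nat.prime_two.isPrimePow hK
    obtain ⟨γ, -, -, a3⟩ := exists_graph6 (ZMod 2)
    obtain ⟨j, j1, j2⟩ := exists_emb6 (ZMod.castHom (dvd_refl 2) K) 1
    have := emb6_ne car6 (X := X6 K) (Y := Y6 _) (fun i => (a3 i 1).1) j2 (b := a) (j' := (MulAut.conj D).toMonoidHom.comp j)
      (fun r t => by simp [j2, b1]) (goodE6.rgD_top _) (goodE6.rgD_hmul _) goodE6.hmul_rg a4 ((MulAut.conj D).injective.comp j1)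
      (S.T_le_grp (hS.T_eq.ge hg)) fun y _ => ⟨y, by simp [← e, mul_assoc, ← mem_center_iff.1 hc]⟩
    have h1 : ω = 1 := (congrArg Units.val this).symm
    simp [h1] at hω
  refine ⟨D, φ, hD, h3, ?_, fun b => ?_, hC, hN⟩
  · refine φ.ker_eq_bot_iff.1 ((Fi22.simple.eq_bot_or_eq_top_of_normal _ inferInstance).resolve_right fun h => hN ?_)
    exact mem_sup_right (hC _ fun x _ _ => by rw [φ.mem_ker.1 (h.ge trivial)]; exact Commute.one_right _)
  · obtain ⟨v, rfl⟩ := Fi22.pres.surj b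
    rw [map_ev' φ hφ]; exact ev_mem fun x _ => b5 x

omit hω [CharP K 2] in
theorem three [Fintype K] (hK : Fintype.card K = 4) {A : Type*} [Group A] (ψ : A →* Spor.Fi22) (h1 : Function.Injective ψ)
    (h2 : ∀ x < 9, x ≠ 0 → Fi22.g x ∈ ψ.range) (hA : Nat.card (Out A) = 2) : ∃ H : Fin 3 → Subgroup (twistedE6 K 2),
      (∀ i, Nonempty (H i ≃* A)) ∧ ∀ i j, i ≠ j → ∀ g : twistedE6 K 2, (H i).map (MulAut.conj g).toMonoidHom ≠ H j := by
  have : CharP K 2 := charP_of_card_eq_prime_pow (f := 2) hK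
  obtain ⟨ω, hω⟩ : ∃ ω : K, ω * ω = ω + 1 := by
    classical
    obtain ⟨ω, h⟩ : ∃ ω : K, ω ∉ ({0, 1} : Finset K) := by
      by_contra! h
      simpa [hK] using (Finset.card_le_card fun x _ => h x : (Finset.univ : Finset K).card ≤ _).trans Finset.card_le_two
    simp only [Finset.mem_insert, Finset.mem_singleton, not_or] at h
    have h3 := FiniteField.pow_card_sub_one_eq_one ω h.1
    rw [hK] at h3
    refine ⟨ω, mul_left_cancel₀ (sub_ne_zero.2 h.2) ?_⟩
    linear_combination h3 - (ω ^ 2 - 1) * CharTwo.two_eq_zero (R := K)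
  obtain ⟨D, φ, a1, a2, a3, a4, a5, a6⟩ := exists_hom hω hK
  exact three_cls a1 a2 (φ.comp ψ) (a3.comp h1) (fun _ => a4 _) hA (fun y hy => a5 y fun x c1 c2 => by
    obtain ⟨b, hb⟩ := h2 x c1 c2
    exact hb ▸ hy b) a6

end E6

end Cfsg.Agent.H17
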