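import Cfsg.Agent.H17.Fi22aT
import Cfsg.Agent.H17.Fi22U

/-! Order and simplicity. -/

namespace Cfsg.Agent.H17

set_option maxRecDepth 100000
set_option Elab.async false
noncomputable def Fi22.z : List ℕ := unp 8 26 (nat_lit 0x704020308000507000301040307020100070106000503020403)
noncomputable def Fi22.R1 : List (List ℕ) := [unp 8 285 (nat_lit 0x302070402030800050700030104030702010007010600050302040302030704020308000507000301040307020100070106000503020403000302070402030800050700030104030702010007010600050302040302030704020308000507000301040307020100070106000503020403000302070402030800050700030104030702010007010600050302040302030704020308000507000301040307020100070106000503020403000302070402030800050700030104030702010007010600050302040302030704020308000507000301040307020100070106000503020403000302070402030800050700030104030702010007010600050302040302030704020308000507000301040307020100070106000503020403)] ++ Fi22.R0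

namespace Fi22C

noncomputable def net0 : Net := benes 1
 []
 []
noncomputable def net1 : Net := benes 1
 []
 []
noncomputable def net2 : Net := benes 1
 []
 []
noncomputable def net3 : Net := benes 1
 []
 []
noncomputable def net4 : Net := benes 1
 []
 []
noncomputable def net5 : Net := benes 1
 []
 []
noncomputable def net6 : Net := benes 1
 []
 []
noncomputable def net7 : Net := benes 1
 []
 []
noncomputable def net8 : Net := benes 1
 []
 []
noncomputable def D : TD := ⟨9, 9, 1, 2, 1, 0, [net0, net1, net2, net3, net4, net5, net6, net7, net8]⟩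
noncomputable def K : List (List ℕ) := [[nat_lit 0],
  unp 8 285 (nat_lit 0x302070402030800050700030104030702010007010600050302040302030704020308000507000301040307020100070106000503020403000302070402030800050700030104030702010007010600050302040302030704020308000507000301040307020100070106000503020403000302070402030800050700030104030702010007010600050302040302030704020308000507000301040307020100070106000503020403000302070402030800050700030104030702010007010600050302040302030704020308000507000301040307020100070106000503020403000302070402030800050700030104030702010007010600050302040302030704020308000507000301040307020100070106000503020403),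
  [nat_lit 0, nat_lit 1, nat_lit 0, nat_lit 1, nat_lit 0, nat_lit 1],
  [nat_lit 0, nat_lit 2, nat_lit 0, nat_lit 2],
  [nat_lit 0, nat_lit 3, nat_lit 0, nat_lit 3],
  [nat_lit 0, nat_lit 4, nat_lit 0, nat_lit 4],
  [nat_lit 0, nat_lit 5, nat_lit 0, nat_lit 5],
  [nat_lit 0, nat_lit 6, nat_lit 0, nat_lit 6],
  [nat_lit 0, nat_lit 7, nat_lit 0, nat_lit 7],
  [nat_lit 0, nat_lit 8, nat_lit 0, nat_lit 8],
  [nat_lit 1, nat_lit 2, nat_lit 1, nat_lit 2, nat_lit 1, nat_lit 2],
  [nat_lit 1, nat_lit 3, nat_lit 1, nat_lit 3],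
  [nat_lit 1, nat_lit 4, nat_lit 1, nat_lit 4],
  [nat_lit 1, nat_lit 5, nat_lit 1, nat_lit 5],
  [nat_lit 1, nat_lit 6, nat_lit 1, nat_lit 6],
  [nat_lit 1, nat_lit 7, nat_lit 1, nat_lit 7],
  [nat_lit 1, nat_lit 8, nat_lit 1, nat_lit 8],
  [nat_lit 2, nat_lit 3, nat_lit 2, nat_lit 3, nat_lit 2, nat_lit 3],
  [nat_lit 2, nat_lit 4, nat_lit 2, nat_lit 4],
  [nat_lit 2, nat_lit 5, nat_lit 2, nat_lit 5],
  [nat_lit 2, nat_lit 6, nat_lit 2, nat_lit 6],
  [nat_lit 2, nat_lit 7, nat_lit 2, nat_lit 7],
  [nat_lit 2, nat_lit 8, nat_lit 2, nat_lit 8],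
  [nat_lit 3, nat_lit 4, nat_lit 3, nat_lit 4, nat_lit 3, nat_lit 4],
  [nat_lit 3, nat_lit 5, nat_lit 3, nat_lit 5],
  [nat_lit 3, nat_lit 6, nat_lit 3, nat_lit 6],
  [nat_lit 3, nat_lit 7, nat_lit 3, nat_lit 7, nat_lit 3, nat_lit 7],
  [nat_lit 3, nat_lit 8, nat_lit 3, nat_lit 8],
  [nat_lit 4, nat_lit 5, nat_lit 4, nat_lit 5, nat_lit 4, nat_lit 5],
  [nat_lit 4, nat_lit 6, nat_lit 4, nat_lit 6],
  [nat_lit 4, nat_lit 7, nat_lit 4, nat_lit 7],
  [nat_lit 4, nat_lit 8, nat_lit 4, nat_lit 8],
  [nat_lit 5, nat_lit 6, nat_lit 5, nat_lit 6, nat_lit 5, nat_lit 6],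
  [nat_lit 5, nat_lit 7, nat_lit 5, nat_lit 7],
  [nat_lit 5, nat_lit 8, nat_lit 5, nat_lit 8],
  [nat_lit 6, nat_lit 7, nat_lit 6, nat_lit 7],
  [nat_lit 6, nat_lit 8, nat_lit 6, nat_lit 8],
  [nat_lit 7, nat_lit 8, nat_lit 7, nat_lit 8, nat_lit 7, nat_lit 8],
  unp 8 90 (nat_lit 0x80703050403010203080703050403010203080703050403010203080703050403010203080703050403010203080703050403010203080703050403010203080703050403010203080703050403010203080703050403010203),
  unp 8 63 (nat_lit 0x70504030201000705040302010007050403020100070504030201000705040302010007050403020100070504030201000705040302010007050403020100),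
  unp 8 63 (nat_lit 0x70605040302010706050403020107060504030201070605040302010706050403020107060504030201070605040302010706050403020107060504030201),
  [nat_lit 0],
  [nat_lit 0, nat_lit 1],
  [nat_lit 0, nat_lit 1, nat_lit 0, nat_lit 2],
  unp 8 8 (nat_lit 0x300010002000100),
  unp 8 16 (nat_lit 0x4000100020001000300010002000100),
  unp 8 32 (nat_lit 0x500010002000100030001000200010004000100020001000300010002000100),
  unp 8 64 (nat_lit 0x6000100020001000300010002000100040001000200010003000100020001000500010002000100030001000200010004000100020001000300010002000100),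
  unp 8 79 (nat_lit 0x7000504030201000504000100020001000201000504030201000504000100020001000201000504030201000504000100020001000201000504030201000504000100020001000201000504030201),
  unp 8 158 (nat_lit 0x800050403020100050400010002000100020100050403020100050400010002000100020100050403020100050400010002000100020100050403020100050400010002000100020100050403020107000504030201000504000100020001000201000504030201000504000100020001000201000504030201000504000100020001000201000504030201000504000100020001000201000504030201)]
noncomputable def W : List (List ℕ) := []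
noncomputable def t0 : ℕ := nat_lit 0x4
noncomputable def i0 : ℕ := nat_lit 0x1
noncomputable def t1 : ℕ := nat_lit 0x10
noncomputable def i1 : ℕ := nat_lit 0x1
noncomputable def t2 : ℕ := nat_lit 0x14
noncomputable def i2 : ℕ := nat_lit 0x1
noncomputable def t3 : ℕ := nat_lit 0x40
noncomputable def i3 : ℕ := nat_lit 0x1
noncomputable def t4 : ℕ := nat_lit 0x44
noncomputable def i4 : ℕ := nat_lit 0x1
noncomputable def t5 : ℕ := nat_lit 0x50
noncomputable def i5 : ℕ := nat_lit 0x1
noncomputable def t6 : ℕ := nat_lit 0x54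
noncomputable def i6 : ℕ := nat_lit 0x1
noncomputable def t7 : ℕ := nat_lit 0x54
noncomputable def i7 : ℕ := nat_lit 0x1
noncomputable def t8 : ℕ := nat_lit 0x100
noncomputable def i8 : ℕ := nat_lit 0x1
noncomputable def C : TT := ⟨5, 3, [t0, t1, t2, t3, t4, t5, t6, t7, t8], 1, [i0, i1, i2, i3, i4, i5, i6, i7, i8], K, W⟩
noncomputable def rs1 : List Rule := [.rel 0 0 0, .rel 42 0 1, .rel 43 0 3, .rel 44 0 7, .rel 45 0 15, .rel 46 0 31, .rel 47 0 63, .rel 48 0 78, .rel 49 0 157]
noncomputable def rss : List (List Rule) := [rs1]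
noncomputable def ds : List (List (List ℕ)) := [[[nat_lit 1]],
 [[nat_lit 17]],
 [[nat_lit 33]],
 [[nat_lit 49]],
 [[nat_lit 65]],
 [[nat_lit 81]],
 [[nat_lit 97]],
 [[nat_lit 113]],
 [[nat_lit 129]],
 [[nat_lit 145]],
 [[nat_lit 161]],
 [[nat_lit 177]],
 [[nat_lit 193]],
 [[nat_lit 209]],
 [[nat_lit 225]],
 [[nat_lit 241]],
 [[nat_lit 257]],
 [[nat_lit 273]],
 [[nat_lit 289]],
 [[nat_lit 305]],
 [[nat_lit 321]],
 [[nat_lit 337]],
 [[nat_lit 353]],
 [[nat_lit 369]],
 [[nat_lit 385]],
 [[nat_lit 401]],
 [[nat_lit 417]],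
 [[nat_lit 433]],
 [[nat_lit 449]],
 [[nat_lit 465]],
 [[nat_lit 481]],
 [[nat_lit 497]],
 [[nat_lit 513]],
 [[nat_lit 529]],
 [[nat_lit 545]],
 [[nat_lit 561]],
 [[nat_lit 577]],
 [[nat_lit 593]],
 [[nat_lit 609]],
 [[nat_lit 625]],
 [[nat_lit 641]],
 [[nat_lit 0, nat_lit 321, nat_lit 0],
  [nat_lit 4],
  [nat_lit 3]],
 [[nat_lit 8, nat_lit 0, nat_lit 329, nat_lit 0, nat_lit 8],
  [nat_lit 4],
  [nat_lit 8, nat_lit 313, nat_lit 8, nat_lit 3, nat_lit 0, nat_lit 3],
  [nat_lit 3],
  [nat_lit 3, nat_lit 0]],
 [[nat_lit 16, nat_lit 16, nat_lit 313, nat_lit 16, nat_lit 16, nat_lit 0],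
  [nat_lit 16, nat_lit 1, nat_lit 16, nat_lit 3],
  [nat_lit 16, nat_lit 257, nat_lit 16, nat_lit 3, nat_lit 8, nat_lit 3],
  [nat_lit 3],
  [nat_lit 3, nat_lit 0, nat_lit 8, nat_lit 0]],
 [[nat_lit 24, nat_lit 24, nat_lit 313, nat_lit 24, nat_lit 24, nat_lit 0],
  [nat_lit 24, nat_lit 24, nat_lit 257, nat_lit 24, nat_lit 24, nat_lit 8],
  [nat_lit 24, nat_lit 1, nat_lit 24, nat_lit 11, nat_lit 3, nat_lit 11],
  [nat_lit 24, nat_lit 209, nat_lit 24, nat_lit 3, nat_lit 16, nat_lit 3],
  [nat_lit 3],
  unp 16 8 (nat_lit 0x8000000100000000800000003)],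
 [[nat_lit 32, nat_lit 32, nat_lit 313, nat_lit 32, nat_lit 32, nat_lit 0],
  [nat_lit 32, nat_lit 32, nat_lit 257, nat_lit 32, nat_lit 32, nat_lit 8],
  [nat_lit 32, nat_lit 32, nat_lit 209, nat_lit 32, nat_lit 32, nat_lit 16],
  unp 16 10 (nat_lit 0x13000b001300030013000b0013002000010020),
  [nat_lit 32, nat_lit 169, nat_lit 32, nat_lit 3, nat_lit 24, nat_lit 3],
  [nat_lit 3],
  unp 16 16 (nat_lit 0x800000010000000080000001800000008000000100000000800000003)],
 [[nat_lit 40, nat_lit 40, nat_lit 313, nat_lit 40, nat_lit 40, nat_lit 0],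
  [nat_lit 40, nat_lit 40, nat_lit 257, nat_lit 40, nat_lit 40, nat_lit 8],
  [nat_lit 40, nat_lit 40, nat_lit 209, nat_lit 40, nat_lit 40, nat_lit 16],
  [nat_lit 40, nat_lit 40, nat_lit 169, nat_lit 40, nat_lit 40, nat_lit 24],
  unp 16 18 (nat_lit 0x1b0013001b000b001b0013001b0003001b0013001b000b001b0013001b002800010028),
  [nat_lit 40, nat_lit 137, nat_lit 40, nat_lit 3, nat_lit 32, nat_lit 3],
  [nat_lit 3],
  unp 16 32 (nat_lit 0x8000000100000000800000018000000080000001000000008000000200000000800000010000000080000001800000008000000100000000800000003)],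
 [[nat_lit 48, nat_lit 48, nat_lit 313, nat_lit 48, nat_lit 48, nat_lit 0],
  [nat_lit 48, nat_lit 48, nat_lit 257, nat_lit 48, nat_lit 48, nat_lit 8],
  [nat_lit 48, nat_lit 48, nat_lit 209, nat_lit 48, nat_lit 48, nat_lit 16],
  [nat_lit 48, nat_lit 48, nat_lit 169, nat_lit 48, nat_lit 48, nat_lit 24],
  [nat_lit 48, nat_lit 48, nat_lit 137, nat_lit 48, nat_lit 48, nat_lit 32],
  unp 16 34 (nat_lit 0x23001b002300130023001b0023000b0023001b002300130023001b002300030023001b002300130023001b0023000b0023001b002300130023001b0023003000010030),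
  [nat_lit 48, nat_lit 113, nat_lit 48, nat_lit 3, nat_lit 40, nat_lit 3],
  [nat_lit 3],
  unp 16 64 (nat_lit 0x800000010000000080000001800000008000000100000000800000020000000080000001000000008000000180000000800000010000000080000002800000008000000100000000800000018000000080000001000000008000000200000000800000010000000080000001800000008000000100000000800000003)],
 [[nat_lit 56, nat_lit 56, nat_lit 313, nat_lit 56, nat_lit 56, nat_lit 0],
  [nat_lit 56, nat_lit 56, nat_lit 113, nat_lit 56, nat_lit 56, nat_lit 40],
  [nat_lit 56, nat_lit 56, nat_lit 137, nat_lit 56, nat_lit 56, nat_lit 32],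
  [nat_lit 56, nat_lit 56, nat_lit 257, nat_lit 56, nat_lit 56, nat_lit 8],
  [nat_lit 56, nat_lit 56, nat_lit 209, nat_lit 56, nat_lit 56, nat_lit 16],
  unp 16 10 (nat_lit 0x23000b002300030023000b0023003800190038),
  unp 16 67 (nat_lit 0x2b0028002000180010000800000023001b0003000b0013002b0028002000180010000800000023001b0003000b0013002b0028002000180010000800000023001b0003000b0013002b0028002000180010000800000023001b0003000b0013002b002800200018001000080008001000180020002800380041003800280020001800100008),
  [nat_lit 3],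
  unp 16 79 (nat_lit 0x8001000180020002800000008001000000008000000100000000800000020002800000008001000180020002800000008001000000008000000100000000800000020002800000008001000180020002800000008001000000008000000100000000800000020002800000008001000180020002800000008001000000008000000100000000800000020002800000008001000180020002800000003)],
 [[nat_lit 64, nat_lit 64, nat_lit 313, nat_lit 64, nat_lit 64, nat_lit 0],
  [nat_lit 64, nat_lit 64, nat_lit 113, nat_lit 64, nat_lit 64, nat_lit 40],
  [nat_lit 64, nat_lit 64, nat_lit 137, nat_lit 64, nat_lit 64, nat_lit 32],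
  [nat_lit 64, nat_lit 64, nat_lit 169, nat_lit 64, nat_lit 64, nat_lit 24],
  [nat_lit 64, nat_lit 64, nat_lit 209, nat_lit 64, nat_lit 64, nat_lit 16],
  [nat_lit 64, nat_lit 64, nat_lit 257, nat_lit 64, nat_lit 64, nat_lit 8],
  unp 16 81 (nat_lit 0x2b0023001b0013000b0003002b0023001b002b0003002b000b002b0003002b000b0003002b0023001b0013000b0003002b0023001b002b0003002b000b002b0003002b000b0003002b0023001b0013000b0003002b0023001b002b0003002b000b002b0003002b000b0003002b0023001b0013000b0003002b0023001b002b0003002b000b002b0003002b000b0003002b0023001b0013000b0003004000010040),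
  [nat_lit 64, nat_lit 89, nat_lit 64, nat_lit 3, nat_lit 56, nat_lit 3],
  [nat_lit 3],
  unp 16 158 (nat_lit 0x80010001800200028000000080010000000080000001000000008000000200028000000080010001800200028000000080010000000080000001000000008000000200028000000080010001800200028000000080010000000080000001000000008000000200028000000080010001800200028000000080010000000080000001000000008000000200028000000080010001800200028000000380008001000180020002800000008001000000008000000100000000800000020002800000008001000180020002800000008001000000008000000100000000800000020002800000008001000180020002800000008001000000008000000100000000800000020002800000008001000180020002800000008001000000008000000100000000800000020002800000008001000180020002800000003)]]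
theorem goodB : D.goodB = true := by decide +kernel
theorem good : D.Good := TD.goodB_sound goodB
theorem tree : treeB D C 1 = true := by decide +kernel
theorem b1 : batchB D C 1 rs1 = true := by decide +kernel
theorem allB : AllB D C rss 1 := ⟨b1, trivial⟩
theorem satK : Sat D.ρ K := TD.satB_sound good.toShape (by decide +kernel)
theorem cert : TCert D C rss := ⟨good, satK, tree, allB⟩
theorem der : chkDer 9 K ds ([[0]] ++ Fi22.R1) = true := by decide +kernel

end Fi22C

namespace Fi22

noncomputable def levels : List Lev := [⟨0, [[nat_lit 0],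
  [nat_lit 1],
  [nat_lit 2],
  [nat_lit 3],
  [nat_lit 4],
  [nat_lit 5],
  [nat_lit 6],
  [nat_lit 7],
  [nat_lit 8]], 8, 14080⟩,
 ⟨1, [[nat_lit 1],
  [nat_lit 2],
  [nat_lit 3],
  [nat_lit 4],
  [nat_lit 5],
  [nat_lit 6],
  [nat_lit 7],
  [nat_lit 8]], 6, 3159⟩,
 ⟨2, [[nat_lit 2],
  [nat_lit 3],
  [nat_lit 4],
  [nat_lit 5],
  [nat_lit 6],
  [nat_lit 7],
  [nat_lit 8]], 5, 288⟩,
 ⟨3, [[nat_lit 3],
  [nat_lit 4],
  [nat_lit 5],
  [nat_lit 6],
  [nat_lit 7],
  [nat_lit 8]], 3, 35⟩,
 ⟨7361, [[nat_lit 4],
  [nat_lit 5],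
  [nat_lit 6],
  [nat_lit 7],
  [nat_lit 8]], 2, 6⟩,
 ⟨13, [[nat_lit 4],
  [nat_lit 6],
  [nat_lit 7],
  [nat_lit 8]], 2, 3⟩,
 ⟨10, [[nat_lit 4],
  [nat_lit 6],
  [nat_lit 7]], 1, 2⟩,
 ⟨4, [[nat_lit 6],
  [nat_lit 7]], 1, 2⟩,
 ⟨8, [[nat_lit 6]], 1, 2⟩]
theorem low : lowB Fi22aT.D 9 levels [] = true := by decide +kernel
/-- a base for the action -/
def base : List ℕ := [8, 4, 10, 13, 7361, 3, 2, 1, 0]
theorem faith : Faith Fi22aT.φ 64561751654400 base :=
  Fi22aT.rep.faith' (Fi22aT.coset.cardLe_top (Fi22U.card0.mono (wgrp_le_of_subsetB _ (by decide +kernel)))) low (by decide +kernel) (by decide +kernel)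
theorem prim : primB Fi22aT.D Fi22aT.W [[nat_lit 0],
  unp 8 15 (nat_lit 0x102030407030805070403020100)] 8 = true := by decide +kernel
theorem z_pow : ev g z ^ 11 = 1 := faith.pow_eq_one Fi22aT.rep (by decide +kernel)
theorem sat1 : Sat g R1 := Sat.append (faith.sat Fi22aT.rep (by decide +kernel)) pres.sat
theorem der0 : chkDer 9 [[0]] [[unp 16 71 (nat_lit 0x18001000020010001800000000000000000000000000000000000200000000000000000000000000000018001000020010001800000000000000000000000000020000000000000000000000180010000200100018000000000000000000020000000000000018001000020010001800000000000200000018001000020010001800020009)]] ([z] ++ R1) = true := by decide +kernel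
theorem simple : IsSimpleGroup Cfsg.Spor.Fi22 :=
  simple_of_cert Fi22aT.rep faith (by norm_num) Fi22aT.coset.trans prim z_pow (by decide +kernel) sat1
    Fi22C.cert rfl rfl rfl rfl der0 Fi22C.der

end Fi22

end Cfsg.Agent.H17
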