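import Cfsg.Agent.H17.Ord
import Cfsg.Agent.H17.Fi22
import Cfsg.Agent.H17.Fi22bS

/-! `Fi22` on its 3510 transpositions. -/

namespace Cfsg.Agent.H17.Fi22

set_option maxRecDepth 100000
set_option Elab.async false

noncomputable def levelsB : List Lev := [⟨0, [[nat_lit 0],
  [nat_lit 1],
  [nat_lit 2],
  [nat_lit 3],
  [nat_lit 4],
  [nat_lit 5],
  [nat_lit 6],
  [nat_lit 7],
  [nat_lit 8]], 6, 3510⟩,
 ⟨4, [[nat_lit 0],
  [nat_lit 2],
  [nat_lit 3],
  [nat_lit 4],
  [nat_lit 5],
  [nat_lit 6],
  [nat_lit 7],
  [nat_lit 8],
  unp 8 17 (nat_lit 0x100020103020704030407020301020001)], 4, 693⟩,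
 ⟨22, [[nat_lit 0],
  [nat_lit 2],
  [nat_lit 4],
  [nat_lit 5],
  [nat_lit 6],
  [nat_lit 7],
  [nat_lit 8],
  unp 8 9 (nat_lit 0x30207040304070203),
  unp 8 17 (nat_lit 0x100020103020704030407020301020001)], 5, 180⟩,
 ⟨638, [[nat_lit 0],
  [nat_lit 2],
  [nat_lit 4],
  [nat_lit 5],
  [nat_lit 6],
  [nat_lit 7],
  unp 8 58 (nat_lit 0x8010002010302070403040702030102000105030207040304070203080100020103020704030407020301020001040503020704030407020308),
  unp 8 58 (nat_lit 0x8030207040304070203050401000201030207040304070203010200010803020704030407020305010002010302070403040702030102000108)], 1, 3⟩,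
 ⟨719, [[nat_lit 0],
  [nat_lit 2],
  [nat_lit 4],
  [nat_lit 5],
  [nat_lit 6],
  [nat_lit 7],
  unp 8 117 (nat_lit 0x80302070403040702030504010002010302070403040702030102000108030207040304070203050100020103020704030407020301020001080408010002010302070403040702030102000105030207040304070203080100020103020704030407020301020001040503020704030407020308),
  unp 8 117 (nat_lit 0x80302070403040702030504010002010302070403040702030102000108030207040304070203050100020103020704030407020301020001080508010002010302070403040702030102000105030207040304070203080100020103020704030407020301020001040503020704030407020308),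
  unp 8 117 (nat_lit 0x80302070403040702030504010002010302070403040702030102000108030207040304070203050100020103020704030407020301020001080608010002010302070403040702030102000105030207040304070203080100020103020704030407020301020001040503020704030407020308)], 2, 128⟩,
 ⟨31, [[nat_lit 0],
  [nat_lit 2],
  [nat_lit 4],
  [nat_lit 6],
  unp 8 117 (nat_lit 0x80302070403040702030504010002010302070403040702030102000108030207040304070203050100020103020704030407020301020001080408010002010302070403040702030102000105030207040304070203080100020103020704030407020301020001040503020704030407020308),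
  unp 8 117 (nat_lit 0x80302070403040702030504010002010302070403040702030102000108030207040304070203050100020103020704030407020301020001080608010002010302070403040702030102000105030207040304070203080100020103020704030407020301020001040503020704030407020308)], 2, 12⟩,
 ⟨1, [[nat_lit 0],
  [nat_lit 2],
  [nat_lit 4],
  [nat_lit 6],
  unp 8 237 (nat_lit 0x80302070403040702030504010002010302070403040702030102000108030207040304070203050100020103020704030407020301020001080406080100020103020704030407020301020001050302070403040702030801000201030207040304070203010200010405030207040304070203080408030207040304070203050401000201030207040304070203010200010803020704030407020305010002010302070403040702030102000108060408010002010302070403040702030102000105030207040304070203080100020103020704030407020301020001040503020704030407020308)], 1, 8⟩,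
 ⟨5, [[nat_lit 4],
  [nat_lit 6]], 1, 2⟩,
 ⟨32, [[nat_lit 6]], 1, 2⟩]
theorem lowB' : lowB Fi22bT.D 7 levelsB [] = true := by decide +kernel
/-- a base for the action on the transpositions -/
def baseB : List ℕ := [32, 5, 1, 31, 719, 638, 22, 4, 0]
theorem faithB : Faith Fi22bT.φ 64561751654400 baseB :=
  Fi22bT.rep.faith' ⟨by have := faith.fin; infer_instance, by simp [faith.card]⟩ lowB' (by decide +kernel) (by decide +kernel)
theorem primB' : primB Fi22bT.D Fi22bT.W [[nat_lit 1],
  [nat_lit 1, nat_lit 0, nat_lit 2, nat_lit 1]] 5 = true := by decide +kernel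
theorem coatomB : IsCoatom (wgrp g Fi22bT.W) := Fi22bT.rep.isCoatom Fi22bT.coset (by decide) primB'
theorem centralizer_a : Subgroup.centralizer {g 0} = wgrp g Fi22bT.W := by
  have := centralizer_eq_of_coatom coatomB (z := ev g [0]) (y := ev g [1])
    (faithB.commS Fi22bT.rep Fi22bS.ok (by decide +kernel))
    (Fi22bT.rep.ncommS Fi22bS.ok (i := 0) (by decide +kernel))
  rwa [ev_single] at this
theorem a_ne : g 0 ≠ 1 := by
  simpa using Fi22bT.rep.neS Fi22bS.ok (u := [0]) (v := []) (i := 1) (by decide +kernel)
theorem a_sq : g 0 ^ 2 = 1 := by
  simpa using faithB.pow_eq_oneS Fi22bT.rep Fi22bS.ok (z := [0]) (p := 2) (by decide +kernel)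
theorem threeTr : IsThreeTranspositionClass (conjugatesOf (g 0)) ∧
    Nat.card (conjugatesOf (g 0)) = 3510 := by
  have := simple
  have := threeTr_of_cert Fi22bT.rep Fi22bT.coset (z := [0]) (ts := [([], 2), ([1], 3), ([1, 0, 2, 1], 2)])
    (coverB_of_primB Fi22bT.good.toShape primB') (fun _ hu => mem_wgrp g hu)
    (by simpa using a_ne) (by simpa using a_sq) (by simpa using centralizer_a)
    (by decide) (faithB.satS Fi22bT.rep Fi22bS.ok (by decide +kernel))
    (normalClosure_eq_top_of_simple (by simpa using a_ne))
  rwa [ev_single] at this
theorem cardWb : Nat.card (wgrp g Fi22bT.W) = 2 * 9196830720 := by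
  have := (wgrp g Fi22bT.W).card_mul_index
  rw [Fi22bT.coset.index_eq, faith.card] at this
  exact Nat.eq_of_mul_eq_mul_right (by norm_num) (this.trans (by norm_num))
theorem cardWa : Nat.card (wgrp g Fi22aT.W) = 4585351680 := by
  have := (wgrp g Fi22aT.W).card_mul_index
  rw [Fi22aT.coset.index_eq, faith.card] at this
  exact Nat.eq_of_mul_eq_mul_right (by norm_num) (this.trans (by norm_num))

end Cfsg.Agent.H17.Fi22
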