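import Cfsg.Agent.H17.Words
import Cfsg.Prelude.Def_Spor_Fi22

/-! The presentation of Fi22 in letters. -/

namespace Cfsg.Agent.H17.Fi22

open Cfsg.Spor

def lets : List (Fi22.Gen × Bool) := [(.a, true), (.b, true), (.c, true), (.d, true), (.e, true), (.f, true), (.g, true), (.h, true), (.i, true)]
def gens : List Fi22.Gen := [.a, .b, .c, .d, .e, .f, .g, .h, .i]
def enc : Fi22.Gen → ℕ
  | .a => 0
  | .b => 1
  | .c => 2
  | .d => 3
  | .e => 4
  | .f => 5
  | .g => 6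
  | .h => 7
  | .i => 8

theorem mem_gens (a : Fi22.Gen) : a ∈ gens := by cases a <;> decide

theorem letsOK : LetsOK 9 9 lets gens enc Fi22.edges Fi22.extra := by decide +kernel

/-- the letters -/
noncomputable def g : ℕ → Fi22 := letOf lets PresentedGroup.of

noncomputable def R0 : List (List ℕ) := [[nat_lit 0, nat_lit 1, nat_lit 0, nat_lit 1, nat_lit 0, nat_lit 1],
  [nat_lit 0, nat_lit 2, nat_lit 0, nat_lit 2],
  [nat_lit 0, nat_lit 3, nat_lit 0, nat_lit 3],
  [nat_lit 0, nat_lit 4, nat_lit 0, nat_lit 4],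
  [nat_lit 0, nat_lit 5, nat_lit 0, nat_lit 5],
  [nat_lit 0, nat_lit 6, nat_lit 0, nat_lit 6],
  [nat_lit 0, nat_lit 7, nat_lit 0, nat_lit 7],
  [nat_lit 0, nat_lit 8, nat_lit 0, nat_lit 8],
  [nat_lit 1, nat_lit 2, nat_lit 1, nat_lit 2, nat_lit 1, nat_lit 2],
  [nat_lit 1, nat_lit 3, nat_lit 1, nat_lit 3],
  [nat_lit 1, nat_lit 4, nat_lit 1, nat_lit 4],
  [nat_lit 1, nat_lit 5, nat_lit 1, nat_lit 5],
  [nat_lit 1, nat_lit 6, nat_lit 1, nat_lit 6],
  [nat_lit 1, nat_lit 7, nat_lit 1, nat_lit 7],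
  [nat_lit 1, nat_lit 8, nat_lit 1, nat_lit 8],
  [nat_lit 2, nat_lit 3, nat_lit 2, nat_lit 3, nat_lit 2, nat_lit 3],
  [nat_lit 2, nat_lit 4, nat_lit 2, nat_lit 4],
  [nat_lit 2, nat_lit 5, nat_lit 2, nat_lit 5],
  [nat_lit 2, nat_lit 6, nat_lit 2, nat_lit 6],
  [nat_lit 2, nat_lit 7, nat_lit 2, nat_lit 7],
  [nat_lit 2, nat_lit 8, nat_lit 2, nat_lit 8],
  [nat_lit 3, nat_lit 4, nat_lit 3, nat_lit 4, nat_lit 3, nat_lit 4],
  [nat_lit 3, nat_lit 5, nat_lit 3, nat_lit 5],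
  [nat_lit 3, nat_lit 6, nat_lit 3, nat_lit 6],
  [nat_lit 3, nat_lit 7, nat_lit 3, nat_lit 7, nat_lit 3, nat_lit 7],
  [nat_lit 3, nat_lit 8, nat_lit 3, nat_lit 8],
  [nat_lit 4, nat_lit 5, nat_lit 4, nat_lit 5, nat_lit 4, nat_lit 5],
  [nat_lit 4, nat_lit 6, nat_lit 4, nat_lit 6],
  [nat_lit 4, nat_lit 7, nat_lit 4, nat_lit 7],
  [nat_lit 4, nat_lit 8, nat_lit 4, nat_lit 8],
  [nat_lit 5, nat_lit 6, nat_lit 5, nat_lit 6, nat_lit 5, nat_lit 6],
  [nat_lit 5, nat_lit 7, nat_lit 5, nat_lit 7],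
  [nat_lit 5, nat_lit 8, nat_lit 5, nat_lit 8],
  [nat_lit 6, nat_lit 7, nat_lit 6, nat_lit 7],
  [nat_lit 6, nat_lit 8, nat_lit 6, nat_lit 8],
  [nat_lit 7, nat_lit 8, nat_lit 7, nat_lit 8, nat_lit 7, nat_lit 8],
  unp 8 90 (nat_lit 0x80703050403010203080703050403010203080703050403010203080703050403010203080703050403010203080703050403010203080703050403010203080703050403010203080703050403010203080703050403010203),
  unp 8 63 (nat_lit 0x70504030201000705040302010007050403020100070504030201000705040302010007050403020100070504030201000705040302010007050403020100),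
  unp 8 63 (nat_lit 0x70605040302010706050403020107060504030201070605040302010706050403020107060504030201070605040302010706050403020107060504030201)]

theorem R0_eq : coxWords 9 gens enc Fi22.edges Fi22.extra = R0 := by decide +kernel

theorem pres : Presents 9 9 R0 g := R0_eq ▸ presents_cox mem_gens letsOK

theorem mk_eq (r : FreeGroup Fi22.Gen) :
    PresentedGroup.mk (coxRelators Fi22.edges ∪ {r | r ∈ Fi22.extra}) r = ev g (wordOf 9 enc r) :=
  mk_eq_ev mem_gens letsOK r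

end Cfsg.Agent.H17.Fi22
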