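import Cfsg.Agent.H17.Fi23T
import Cfsg.Agent.H17.Fi23U

/-! Order and simplicity. -/

namespace Cfsg.Agent.H17

set_option maxRecDepth 100000
set_option Elab.async false
noncomputable def Fi23.z : List ℕ := unp 8 23 (nat_lit 0x203010704020700030803070609010403070507010403)
noncomputable def Fi23.R1 : List (List ℕ) := [unp 8 385 (nat_lit 0x20203010704020700030803070609010403070507010403020704030203010704020700030803070609010403070507010403030407000202030107040207000308030706090104030705070104030207040302030107040207000308030706090104030705070104030304070002020301070402070003080307060901040307050701040302070403020301070402070003080307060901040307050701040303040700020203010704020700030803070609010403070507010403020704030203010704020700030803070609010403070507010403030407000202030107040207000308030706090104030705070104030207040302030107040207000308030706090104030705070104030304070002020301070402070003080307060901040307050701040302070403020301070402070003080307060901040307050701040303040700020203010704020700030803070609010403070507010403020704030203010704020700030803070609010403070507010403030407)]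 ++ Fi23.R0

namespace Fi23C

noncomputable def net0 : Net := benes 1
 []
 []
noncomputable def net1 : Net := benes 1
 []
 []
noncomputable def net2 : Net := benes 1
 []
 []
noncomputable def net3 : Net := benes 1
 []
 []
noncomputable def net4 : Net := benes 1
 []
 []
noncomputable def net5 : Net := benes 1
 []
 []
noncomputable def net6 : Net := benes 1
 []
 []
noncomputable def net7 : Net := benes 1
 []
 []
noncomputable def net8 : Net := benes 1
 []
 []
noncomputable def net9 : Net := benes 1
 []
 []
noncomputable def D : TD := ⟨10, 10, 1, 2, 1, 0, [net0, net1, net2, net3, net4, net5, net6, net7, net8, net9]⟩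
noncomputable def K : List (List ℕ) := [[nat_lit 0],
  unp 8 343 (nat_lit 0x30107040207000308030706090104030705070104030207040302030107040207000308030706090104030705070107000301070402070003080307060901040307050701040302070403020301070402070003080307060901040307050701070003010704020700030803070609010403070507010403020704030203010704020700030803070609010403070507010700030107040207000308030706090104030705070104030207040302030107040207000308030706090104030705070107000301070402070003080307060901040307050701040302070403020301070402070003080307060901040307050701070003010704020700030803070609010403070507010403020704030203010704020700030803070609010403070507010700030107040207000308030706090104030705070104030207040302030107040207000308030706090104030705070107),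
  [nat_lit 0, nat_lit 1, nat_lit 0, nat_lit 1, nat_lit 0, nat_lit 1],
  [nat_lit 0, nat_lit 2, nat_lit 0, nat_lit 2],
  [nat_lit 0, nat_lit 3, nat_lit 0, nat_lit 3],
  [nat_lit 0, nat_lit 4, nat_lit 0, nat_lit 4],
  [nat_lit 0, nat_lit 5, nat_lit 0, nat_lit 5],
  [nat_lit 0, nat_lit 6, nat_lit 0, nat_lit 6],
  [nat_lit 0, nat_lit 7, nat_lit 0, nat_lit 7],
  [nat_lit 0, nat_lit 8, nat_lit 0, nat_lit 8],
  [nat_lit 0, nat_lit 9, nat_lit 0, nat_lit 9],
  [nat_lit 1, nat_lit 2, nat_lit 1, nat_lit 2, nat_lit 1, nat_lit 2],
  [nat_lit 1, nat_lit 3, nat_lit 1, nat_lit 3],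
  [nat_lit 1, nat_lit 4, nat_lit 1, nat_lit 4],
  [nat_lit 1, nat_lit 5, nat_lit 1, nat_lit 5],
  [nat_lit 1, nat_lit 6, nat_lit 1, nat_lit 6],
  [nat_lit 1, nat_lit 7, nat_lit 1, nat_lit 7],
  [nat_lit 1, nat_lit 8, nat_lit 1, nat_lit 8],
  [nat_lit 1, nat_lit 9, nat_lit 1, nat_lit 9],
  [nat_lit 2, nat_lit 3, nat_lit 2, nat_lit 3, nat_lit 2, nat_lit 3],
  [nat_lit 2, nat_lit 4, nat_lit 2, nat_lit 4],
  [nat_lit 2, nat_lit 5, nat_lit 2, nat_lit 5],
  [nat_lit 2, nat_lit 6, nat_lit 2, nat_lit 6],
  [nat_lit 2, nat_lit 7, nat_lit 2, nat_lit 7],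
  [nat_lit 2, nat_lit 8, nat_lit 2, nat_lit 8],
  [nat_lit 2, nat_lit 9, nat_lit 2, nat_lit 9],
  [nat_lit 3, nat_lit 4, nat_lit 3, nat_lit 4, nat_lit 3, nat_lit 4],
  [nat_lit 3, nat_lit 5, nat_lit 3, nat_lit 5],
  [nat_lit 3, nat_lit 6, nat_lit 3, nat_lit 6],
  [nat_lit 3, nat_lit 7, nat_lit 3, nat_lit 7],
  [nat_lit 3, nat_lit 8, nat_lit 3, nat_lit 8, nat_lit 3, nat_lit 8],
  [nat_lit 3, nat_lit 9, nat_lit 3, nat_lit 9],
  [nat_lit 4, nat_lit 5, nat_lit 4, nat_lit 5, nat_lit 4, nat_lit 5],
  [nat_lit 4, nat_lit 6, nat_lit 4, nat_lit 6],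
  [nat_lit 4, nat_lit 7, nat_lit 4, nat_lit 7],
  [nat_lit 4, nat_lit 8, nat_lit 4, nat_lit 8],
  [nat_lit 4, nat_lit 9, nat_lit 4, nat_lit 9],
  [nat_lit 5, nat_lit 6, nat_lit 5, nat_lit 6, nat_lit 5, nat_lit 6],
  [nat_lit 5, nat_lit 7, nat_lit 5, nat_lit 7],
  [nat_lit 5, nat_lit 8, nat_lit 5, nat_lit 8],
  [nat_lit 5, nat_lit 9, nat_lit 5, nat_lit 9],
  [nat_lit 6, nat_lit 7, nat_lit 6, nat_lit 7, nat_lit 6, nat_lit 7],
  [nat_lit 6, nat_lit 8, nat_lit 6, nat_lit 8],
  [nat_lit 6, nat_lit 9, nat_lit 6, nat_lit 9],
  [nat_lit 7, nat_lit 8, nat_lit 7, nat_lit 8],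
  [nat_lit 7, nat_lit 9, nat_lit 7, nat_lit 9],
  [nat_lit 8, nat_lit 9, nat_lit 8, nat_lit 9, nat_lit 8, nat_lit 9],
  unp 8 90 (nat_lit 0x90803050403010203090803050403010203090803050403010203090803050403010203090803050403010203090803050403010203090803050403010203090803050403010203090803050403010203090803050403010203),
  unp 8 63 (nat_lit 0x80504030201000805040302010008050403020100080504030201000805040302010008050403020100080504030201000805040302010008050403020100),
  [nat_lit 0],
  [nat_lit 0, nat_lit 1],
  [nat_lit 0, nat_lit 1, nat_lit 0, nat_lit 2],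
  unp 8 8 (nat_lit 0x300010002000100),
  unp 8 16 (nat_lit 0x4000100020001000300010002000100),
  unp 8 32 (nat_lit 0x500010002000100030001000200010004000100020001000300010002000100),
  unp 8 64 (nat_lit 0x6000100020001000300010002000100040001000200010003000100020001000500010002000100030001000200010004000100020001000300010002000100),
  unp 8 128 (nat_lit 0x700010002000100030001000200010004000100020001000300010002000100050001000200010003000100020001000400010002000100030001000200010006000100020001000300010002000100040001000200010003000100020001000500010002000100030001000200010004000100020001000300010002000100),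
  unp 8 79 (nat_lit 0x8000504030201000504000100020001000201000504030201000504000100020001000201000504030201000504000100020001000201000504030201000504000100020001000201000504030201),
  unp 8 158 (nat_lit 0x900050403020100050400010002000100020100050403020100050400010002000100020100050403020100050400010002000100020100050403020100050400010002000100020100050403020108000504030201000504000100020001000201000504030201000504000100020001000201000504030201000504000100020001000201000504030201000504000100020001000201000504030201)]
noncomputable def W : List (List ℕ) := []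
noncomputable def t0 : ℕ := nat_lit 0x4
noncomputable def i0 : ℕ := nat_lit 0x1
noncomputable def t1 : ℕ := nat_lit 0x10
noncomputable def i1 : ℕ := nat_lit 0x1
noncomputable def t2 : ℕ := nat_lit 0x14
noncomputable def i2 : ℕ := nat_lit 0x1
noncomputable def t3 : ℕ := nat_lit 0x40
noncomputable def i3 : ℕ := nat_lit 0x1
noncomputable def t4 : ℕ := nat_lit 0x44
noncomputable def i4 : ℕ := nat_lit 0x1
noncomputable def t5 : ℕ := nat_lit 0x50
noncomputable def i5 : ℕ := nat_lit 0x1
noncomputable def t6 : ℕ := nat_lit 0x54
noncomputable def i6 : ℕ := nat_lit 0x1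
noncomputable def t7 : ℕ := nat_lit 0x100
noncomputable def i7 : ℕ := nat_lit 0x1
noncomputable def t8 : ℕ := nat_lit 0x54
noncomputable def i8 : ℕ := nat_lit 0x1
noncomputable def t9 : ℕ := nat_lit 0x100
noncomputable def i9 : ℕ := nat_lit 0x1
noncomputable def C : TT := ⟨5, 3, [t0, t1, t2, t3, t4, t5, t6, t7, t8, t9], 1, [i0, i1, i2, i3, i4, i5, i6, i7, i8, i9], K, W⟩
noncomputable def rs1 : List Rule := [.rel 0 0 0, .rel 50 0 1, .rel 51 0 3, .rel 52 0 7, .rel 53 0 15, .rel 54 0 31, .rel 55 0 63, .rel 56 0 127, .rel 57 0 78, .rel 58 0 157]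
noncomputable def rss : List (List Rule) := [rs1]
noncomputable def ds : List (List (List ℕ)) := [[[nat_lit 1]],
 [[nat_lit 17]],
 [[nat_lit 33]],
 [[nat_lit 49]],
 [[nat_lit 65]],
 [[nat_lit 81]],
 [[nat_lit 97]],
 [[nat_lit 113]],
 [[nat_lit 129]],
 [[nat_lit 145]],
 [[nat_lit 161]],
 [[nat_lit 177]],
 [[nat_lit 193]],
 [[nat_lit 209]],
 [[nat_lit 225]],
 [[nat_lit 241]],
 [[nat_lit 257]],
 [[nat_lit 273]],
 [[nat_lit 289]],
 [[nat_lit 305]],
 [[nat_lit 321]],
 [[nat_lit 337]],
 [[nat_lit 353]],
 [[nat_lit 369]],
 [[nat_lit 385]],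
 [[nat_lit 401]],
 [[nat_lit 417]],
 [[nat_lit 433]],
 [[nat_lit 449]],
 [[nat_lit 465]],
 [[nat_lit 481]],
 [[nat_lit 497]],
 [[nat_lit 513]],
 [[nat_lit 529]],
 [[nat_lit 545]],
 [[nat_lit 561]],
 [[nat_lit 577]],
 [[nat_lit 593]],
 [[nat_lit 609]],
 [[nat_lit 625]],
 [[nat_lit 641]],
 [[nat_lit 657]],
 [[nat_lit 673]],
 [[nat_lit 689]],
 [[nat_lit 705]],
 [[nat_lit 721]],
 [[nat_lit 737]],
 [[nat_lit 753]],
 [[nat_lit 769]],
 [[nat_lit 0, nat_lit 385, nat_lit 0],
  [nat_lit 4],
  [nat_lit 3]],
 [[nat_lit 8, nat_lit 0, nat_lit 393, nat_lit 0, nat_lit 8],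
  [nat_lit 4],
  [nat_lit 8, nat_lit 377, nat_lit 8, nat_lit 3, nat_lit 0, nat_lit 3],
  [nat_lit 3],
  [nat_lit 3, nat_lit 0]],
 [[nat_lit 16, nat_lit 16, nat_lit 377, nat_lit 16, nat_lit 16, nat_lit 0],
  [nat_lit 16, nat_lit 1, nat_lit 16, nat_lit 3],
  [nat_lit 16, nat_lit 313, nat_lit 16, nat_lit 3, nat_lit 8, nat_lit 3],
  [nat_lit 3],
  [nat_lit 3, nat_lit 0, nat_lit 8, nat_lit 0]],
 [[nat_lit 24, nat_lit 24, nat_lit 377, nat_lit 24, nat_lit 24, nat_lit 0],
  [nat_lit 24, nat_lit 24, nat_lit 313, nat_lit 24, nat_lit 24, nat_lit 8],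
  [nat_lit 24, nat_lit 1, nat_lit 24, nat_lit 11, nat_lit 3, nat_lit 11],
  [nat_lit 24, nat_lit 257, nat_lit 24, nat_lit 3, nat_lit 16, nat_lit 3],
  [nat_lit 3],
  unp 16 8 (nat_lit 0x8000000100000000800000003)],
 [[nat_lit 32, nat_lit 32, nat_lit 377, nat_lit 32, nat_lit 32, nat_lit 0],
  [nat_lit 32, nat_lit 32, nat_lit 313, nat_lit 32, nat_lit 32, nat_lit 8],
  [nat_lit 32, nat_lit 32, nat_lit 257, nat_lit 32, nat_lit 32, nat_lit 16],
  unp 16 10 (nat_lit 0x13000b001300030013000b0013002000010020),
  [nat_lit 32, nat_lit 209, nat_lit 32, nat_lit 3, nat_lit 24, nat_lit 3],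
  [nat_lit 3],
  unp 16 16 (nat_lit 0x800000010000000080000001800000008000000100000000800000003)],
 [[nat_lit 40, nat_lit 40, nat_lit 377, nat_lit 40, nat_lit 40, nat_lit 0],
  [nat_lit 40, nat_lit 40, nat_lit 313, nat_lit 40, nat_lit 40, nat_lit 8],
  [nat_lit 40, nat_lit 40, nat_lit 257, nat_lit 40, nat_lit 40, nat_lit 16],
  [nat_lit 40, nat_lit 40, nat_lit 209, nat_lit 40, nat_lit 40, nat_lit 24],
  unp 16 18 (nat_lit 0x1b0013001b000b001b0013001b0003001b0013001b000b001b0013001b002800010028),
  [nat_lit 40, nat_lit 169, nat_lit 40, nat_lit 3, nat_lit 32, nat_lit 3],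
  [nat_lit 3],
  unp 16 32 (nat_lit 0x8000000100000000800000018000000080000001000000008000000200000000800000010000000080000001800000008000000100000000800000003)],
 [[nat_lit 48, nat_lit 48, nat_lit 377, nat_lit 48, nat_lit 48, nat_lit 0],
  [nat_lit 48, nat_lit 48, nat_lit 313, nat_lit 48, nat_lit 48, nat_lit 8],
  [nat_lit 48, nat_lit 48, nat_lit 257, nat_lit 48, nat_lit 48, nat_lit 16],
  [nat_lit 48, nat_lit 48, nat_lit 209, nat_lit 48, nat_lit 48, nat_lit 24],
  [nat_lit 48, nat_lit 48, nat_lit 169, nat_lit 48, nat_lit 48, nat_lit 32],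
  unp 16 34 (nat_lit 0x23001b002300130023001b0023000b0023001b002300130023001b002300030023001b002300130023001b0023000b0023001b002300130023001b0023003000010030),
  [nat_lit 48, nat_lit 137, nat_lit 48, nat_lit 3, nat_lit 40, nat_lit 3],
  [nat_lit 3],
  unp 16 64 (nat_lit 0x800000010000000080000001800000008000000100000000800000020000000080000001000000008000000180000000800000010000000080000002800000008000000100000000800000018000000080000001000000008000000200000000800000010000000080000001800000008000000100000000800000003)],
 [[nat_lit 56, nat_lit 56, nat_lit 377, nat_lit 56, nat_lit 56, nat_lit 0],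
  [nat_lit 56, nat_lit 56, nat_lit 313, nat_lit 56, nat_lit 56, nat_lit 8],
  [nat_lit 56, nat_lit 56, nat_lit 257, nat_lit 56, nat_lit 56, nat_lit 16],
  [nat_lit 56, nat_lit 56, nat_lit 209, nat_lit 56, nat_lit 56, nat_lit 24],
  [nat_lit 56, nat_lit 56, nat_lit 169, nat_lit 56, nat_lit 56, nat_lit 32],
  [nat_lit 56, nat_lit 56, nat_lit 137, nat_lit 56, nat_lit 56, nat_lit 40],
  unp 16 66 (nat_lit 0x2b0023002b001b002b0023002b0013002b0023002b001b002b0023002b000b002b0023002b001b002b0023002b0013002b0023002b001b002b0023002b0003002b0023002b001b002b0023002b0013002b0023002b001b002b0023002b000b002b0023002b001b002b0023002b0013002b0023002b001b002b0023002b003800010038),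
  [nat_lit 56, nat_lit 113, nat_lit 56, nat_lit 3, nat_lit 48, nat_lit 3],
  [nat_lit 3],
  unp 16 128 (nat_lit 0x8000000100000000800000018000000080000001000000008000000200000000800000010000000080000001800000008000000100000000800000028000000080000001000000008000000180000000800000010000000080000002000000008000000100000000800000018000000080000001000000008000000300000000800000010000000080000001800000008000000100000000800000020000000080000001000000008000000180000000800000010000000080000002800000008000000100000000800000018000000080000001000000008000000200000000800000010000000080000001800000008000000100000000800000003)],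
 [[nat_lit 64, nat_lit 64, nat_lit 377, nat_lit 64, nat_lit 64, nat_lit 0],
  [nat_lit 64, nat_lit 64, nat_lit 137, nat_lit 64, nat_lit 64, nat_lit 40],
  [nat_lit 64, nat_lit 64, nat_lit 169, nat_lit 64, nat_lit 64, nat_lit 32],
  [nat_lit 64, nat_lit 64, nat_lit 313, nat_lit 64, nat_lit 64, nat_lit 8],
  [nat_lit 64, nat_lit 64, nat_lit 257, nat_lit 64, nat_lit 64, nat_lit 16],
  unp 16 10 (nat_lit 0x23000b002300030023000b0023004000210040),
  unp 16 67 (nat_lit 0x2b0028002000180010000800000023001b0003000b0013002b0028002000180010000800000023001b0003000b0013002b0028002000180010000800000023001b0003000b0013002b0028002000180010000800000023001b0003000b0013002b002800200018001000080008001000180020002800400041004000280020001800100008),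
  [nat_lit 3],
  unp 16 79 (nat_lit 0x8001000180020002800000008001000000008000000100000000800000020002800000008001000180020002800000008001000000008000000100000000800000020002800000008001000180020002800000008001000000008000000100000000800000020002800000008001000180020002800000008001000000008000000100000000800000020002800000008001000180020002800000003)],
 [[nat_lit 72, nat_lit 72, nat_lit 377, nat_lit 72, nat_lit 72, nat_lit 0],
  [nat_lit 72, nat_lit 72, nat_lit 137, nat_lit 72, nat_lit 72, nat_lit 40],
  [nat_lit 72, nat_lit 72, nat_lit 169, nat_lit 72, nat_lit 72, nat_lit 32],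
  [nat_lit 72, nat_lit 72, nat_lit 209, nat_lit 72, nat_lit 72, nat_lit 24],
  [nat_lit 72, nat_lit 72, nat_lit 257, nat_lit 72, nat_lit 72, nat_lit 16],
  [nat_lit 72, nat_lit 72, nat_lit 313, nat_lit 72, nat_lit 72, nat_lit 8],
  unp 16 81 (nat_lit 0x2b0023001b0013000b0003002b0023001b002b0003002b000b002b0003002b000b0003002b0023001b0013000b0003002b0023001b002b0003002b000b002b0003002b000b0003002b0023001b0013000b0003002b0023001b002b0003002b000b002b0003002b000b0003002b0023001b0013000b0003002b0023001b002b0003002b000b002b0003002b000b0003002b0023001b0013000b0003004800010048),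
  [nat_lit 72, nat_lit 89, nat_lit 72, nat_lit 3, nat_lit 64, nat_lit 3],
  [nat_lit 3],
  unp 16 158 (nat_lit 0x80010001800200028000000080010000000080000001000000008000000200028000000080010001800200028000000080010000000080000001000000008000000200028000000080010001800200028000000080010000000080000001000000008000000200028000000080010001800200028000000080010000000080000001000000008000000200028000000080010001800200028000000400008001000180020002800000008001000000008000000100000000800000020002800000008001000180020002800000008001000000008000000100000000800000020002800000008001000180020002800000008001000000008000000100000000800000020002800000008001000180020002800000008001000000008000000100000000800000020002800000008001000180020002800000003)]]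
theorem goodB : D.goodB = true := by decide +kernel
theorem good : D.Good := TD.goodB_sound goodB
theorem tree : treeB D C 1 = true := by decide +kernel
theorem b1 : batchB D C 1 rs1 = true := by decide +kernel
theorem allB : AllB D C rss 1 := ⟨b1, trivial⟩
theorem satK : Sat D.ρ K := TD.satB_sound good.toShape (by decide +kernel)
theorem cert : TCert D C rss := ⟨good, satK, tree, allB⟩
theorem der : chkDer 10 K ds ([[0]] ++ Fi23.R1) = true := by decide +kernel

end Fi23C

namespace Fi23

noncomputable def levels : List Lev := [⟨0, [[nat_lit 0],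
  [nat_lit 1],
  [nat_lit 2],
  [nat_lit 3],
  [nat_lit 4],
  [nat_lit 5],
  [nat_lit 6],
  [nat_lit 7],
  [nat_lit 8],
  [nat_lit 9]], 13, 31671⟩,
 ⟨1, [[nat_lit 0],
  [nat_lit 1],
  [nat_lit 2],
  [nat_lit 3],
  [nat_lit 4],
  [nat_lit 5],
  [nat_lit 6],
  [nat_lit 8],
  [nat_lit 9]], 12, 28160⟩,
 ⟨2, [[nat_lit 0],
  [nat_lit 1],
  [nat_lit 2],
  [nat_lit 3],
  [nat_lit 4],
  [nat_lit 5],
  [nat_lit 8],
  [nat_lit 9]], 9, 3159⟩,
 ⟨3, [[nat_lit 0],
  [nat_lit 1],
  [nat_lit 2],
  [nat_lit 3],
  [nat_lit 4],
  [nat_lit 8],
  [nat_lit 9]], 7, 288⟩,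
 ⟨4, [[nat_lit 0],
  [nat_lit 1],
  [nat_lit 2],
  [nat_lit 3],
  [nat_lit 8],
  [nat_lit 9]], 4, 35⟩,
 ⟨16800, [[nat_lit 0],
  [nat_lit 1],
  [nat_lit 2],
  [nat_lit 8],
  [nat_lit 9]], 2, 6⟩,
 ⟨14, [[nat_lit 0],
  [nat_lit 2],
  [nat_lit 8],
  [nat_lit 9]], 2, 3⟩,
 ⟨11, [[nat_lit 0],
  [nat_lit 2],
  [nat_lit 8]], 1, 2⟩,
 ⟨5, [[nat_lit 0],
  [nat_lit 8]], 1, 2⟩,
 ⟨9, [[nat_lit 0]], 1, 2⟩]
theorem low : lowB Fi23T.D 10 levels [] = true := by decide +kernel
/-- a base for the action -/
def base : List ℕ := [9, 5, 11, 14, 16800, 4, 3, 2, 1, 0]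
theorem faith : Faith Fi23T.φ 4089470473293004800 base :=
  Fi23T.rep.faith' (Fi23T.coset.cardLe_top (Fi23U.card0.mono (wgrp_le_of_subsetB _ (by decide +kernel)))) low (by decide +kernel) (by decide +kernel)
theorem prim : primB Fi23T.D Fi23T.W [[nat_lit 7],
  unp 8 12 (nat_lit 0x70605040308020304050607)] 12 = true := by decide +kernel
theorem z_pow : ev g z ^ 23 = 1 := faith.pow_eq_one Fi23T.rep (by decide +kernel)
theorem sat1 : Sat g R1 := Sat.append (faith.sat Fi23T.rep (by decide +kernel)) pres.sat
theorem der0 : chkDer 10 [[0]] [[unp 16 155 (nat_lit 0x100002001000000000000000000000000000000000000000000000000000380020001800020018002000380000000000000000000000000000000000000000000000100002001000000000000000000000000000000000000000000038002000180002001800200038000000000000000000000000000000000000001000020010000000000000000000000000000000000038002000180002001800200038000000000000000000000000000000100002001000000000000000000000000000380020001800020018002000380000000000000000000000100002001000000000000000000038002000180002001800200038000000000000001000020010000000000038002000180002001800200038000000100002001000380020001800020018002000380009)]]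 ([z] ++ R1) = true := by decide +kernel
theorem simple : IsSimpleGroup Cfsg.Spor.Fi23 :=
  simple_of_cert Fi23T.rep faith (by norm_num) Fi23T.coset.trans prim z_pow (by decide +kernel) sat1
    Fi23C.cert rfl rfl rfl rfl der0 Fi23C.der

end Fi23

end Cfsg.Agent.H17
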