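import Cfsg.Agent.H17.Cover
import Cfsg.Agent.H17.Fi23
import Cfsg.Agent.H17.Fi23S
import Cfsg.Agent.H17.Fi22

/-! The 3-transpositions of `Fi23` and their centralisers `2·Fi22`. -/

namespace Cfsg.Agent.H17.Fi23

set_option maxRecDepth 100000
set_option Elab.async false

/-- the central involution `(bcdefgh)^9` of the point stabiliser, in the letters of `Fi22` -/
noncomputable def z22 : List ℕ := unp 8 63 (nat_lit 0x70605040302010706050403020107060504030201070605040302010706050403020107060504030201070605040302010706050403020107060504030201)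
/-- the same in the letters of `Fi23` -/
noncomputable def zc : List ℕ := substW Fi23T.W z22
noncomputable def RC : List (List ℕ) := commWords 9 z22 (idW 9) ++ ([unp 8 126 (nat_lit 0x70605040302010706050403020107060504030201070605040302010706050403020107060504030201070605040302010706050403020107060504030201070605040302010706050403020107060504030201070605040302010706050403020107060504030201070605040302010706050403020107060504030201),
  unp 8 105 (nat_lit 0x60606060606070504030201000705040302010007050403020100070504030201000705040302010007050403020100070504030201000705040302010007050403020100060506050605050405040504040304030403030203020302020102010201010001000100),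
  [nat_lit 0, nat_lit 1, nat_lit 0, nat_lit 1, nat_lit 0, nat_lit 1],
  [nat_lit 0, nat_lit 2, nat_lit 0, nat_lit 2],
  [nat_lit 0, nat_lit 3, nat_lit 0, nat_lit 3],
  [nat_lit 0, nat_lit 4, nat_lit 0, nat_lit 4],
  [nat_lit 0, nat_lit 5, nat_lit 0, nat_lit 5],
  [nat_lit 0, nat_lit 6, nat_lit 0, nat_lit 6],
  [nat_lit 0, nat_lit 7, nat_lit 0, nat_lit 7],
  [nat_lit 0, nat_lit 8, nat_lit 0, nat_lit 8],
  [nat_lit 1, nat_lit 2, nat_lit 1, nat_lit 2, nat_lit 1, nat_lit 2],
  [nat_lit 1, nat_lit 3, nat_lit 1, nat_lit 3],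
  [nat_lit 1, nat_lit 4, nat_lit 1, nat_lit 4],
  [nat_lit 1, nat_lit 5, nat_lit 1, nat_lit 5],
  [nat_lit 1, nat_lit 6, nat_lit 1, nat_lit 6],
  [nat_lit 1, nat_lit 7, nat_lit 1, nat_lit 7],
  [nat_lit 1, nat_lit 8, nat_lit 1, nat_lit 8],
  [nat_lit 2, nat_lit 3, nat_lit 2, nat_lit 3, nat_lit 2, nat_lit 3],
  [nat_lit 2, nat_lit 4, nat_lit 2, nat_lit 4],
  [nat_lit 2, nat_lit 5, nat_lit 2, nat_lit 5],
  [nat_lit 2, nat_lit 6, nat_lit 2, nat_lit 6],
  [nat_lit 2, nat_lit 7, nat_lit 2, nat_lit 7],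
  [nat_lit 2, nat_lit 8, nat_lit 2, nat_lit 8],
  [nat_lit 3, nat_lit 4, nat_lit 3, nat_lit 4, nat_lit 3, nat_lit 4],
  [nat_lit 3, nat_lit 5, nat_lit 3, nat_lit 5],
  [nat_lit 3, nat_lit 6, nat_lit 3, nat_lit 6],
  [nat_lit 3, nat_lit 7, nat_lit 3, nat_lit 7, nat_lit 3, nat_lit 7],
  [nat_lit 3, nat_lit 8, nat_lit 3, nat_lit 8],
  [nat_lit 4, nat_lit 5, nat_lit 4, nat_lit 5, nat_lit 4, nat_lit 5],
  [nat_lit 4, nat_lit 6, nat_lit 4, nat_lit 6],
  [nat_lit 4, nat_lit 7, nat_lit 4, nat_lit 7],
  [nat_lit 4, nat_lit 8, nat_lit 4, nat_lit 8],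
  [nat_lit 5, nat_lit 6, nat_lit 5, nat_lit 6, nat_lit 5, nat_lit 6],
  [nat_lit 5, nat_lit 7, nat_lit 5, nat_lit 7],
  [nat_lit 5, nat_lit 8, nat_lit 5, nat_lit 8],
  [nat_lit 6, nat_lit 7, nat_lit 6, nat_lit 7],
  [nat_lit 6, nat_lit 8, nat_lit 6, nat_lit 8],
  [nat_lit 7, nat_lit 8, nat_lit 7, nat_lit 8, nat_lit 7, nat_lit 8],
  unp 8 90 (nat_lit 0x80703050403010203080703050403010203080703050403010203080703050403010203080703050403010203080703050403010203080703050403010203080703050403010203080703050403010203080703050403010203),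
  unp 8 63 (nat_lit 0x70504030201000705040302010007050403020100070504030201000705040302010007050403020100070504030201000705040302010007050403020100)])
theorem satC : Sat g (substL Fi23T.W RC) := faith.satS Fi23T.rep Fi23S.ok (by decide +kernel)
theorem invW : Inv 9 (sub Fi23T.W g) := inv_sub pres.inv (by decide) (by decide) (by decide +kernel)
theorem zc_ne : ev g zc ≠ 1 := Fi23T.rep.neS Fi23S.ok (v := []) (i := 1) (by decide +kernel)
theorem cardH : Nat.card (wgrp g Fi23T.W) = 2 * 64561751654400 := by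
  have := (wgrp g Fi23T.W).card_mul_index
  rw [Fi23T.coset.index_eq, faith.card] at this
  omega
theorem cover : IsNonsplitDoubleCover (wgrp g Fi23T.W) Cfsg.Spor.Fi22 ∧
    Subgroup.center (wgrp g Fi23T.W) = Subgroup.zpowers (ev (subL Fi23T.W g) z22) ∧
    ∃ e : Cfsg.Spor.Fi22 ≃* (wgrp g Fi23T.W) ⧸ Subgroup.center (wgrp g Fi23T.W),
      ∀ x, e (Fi22.g x) = (subL Fi23T.W g x : (wgrp g Fi23T.W) ⧸ Subgroup.center (wgrp g Fi23T.W)) :=
  have := Fi22.faith.fin
  have := Fi22.simple
  nonsplit_of_cert (gens_subL invW) Fi22.pres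
    (center_eq_bot_of_simple (by rw [Fi22.faith.card]; norm_num))
    (fun e => zc_ne (by rw [zc, ← ev_sub, ← coe_ev_subL, e]; rfl)) (sat_subL (sat_sub satC))
    (by decide +kernel) (fun _ hu => List.mem_append_left _ hu) (by decide +kernel)
    (by rw [cardH, Fi22.faith.card]) (v := unp 8 105 (nat_lit 0x60606060606070504030201000705040302010007050403020100070504030201000705040302010007050403020100070504030201000705040302010007050403020100060506050605050405040504040304030403030203020302020102010201010001000100)) (w := unp 8 21 (nat_lit 0x50505040404030303020202010101000000000000)) (by decide +kernel)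
    (by decide +kernel)
theorem coatom : IsCoatom (wgrp g Fi23T.W) := Fi23T.rep.isCoatom Fi23T.coset (by decide) prim
theorem centralizer_zc : Subgroup.centralizer {ev g zc} = wgrp g Fi23T.W :=
  centralizer_eq_of_coatom coatom (faith.commS Fi23T.rep Fi23S.ok (by decide +kernel))
    (Fi23T.rep.ncommS Fi23S.ok (u := [7]) (i := 0) (by decide +kernel))
theorem zc_sq : ev g zc ^ 2 = 1 := faith.pow_eq_oneS Fi23T.rep Fi23S.ok (by decide +kernel)
theorem threeTr : IsThreeTranspositionClass (conjugatesOf (ev g zc)) ∧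
    Nat.card (conjugatesOf (ev g zc)) = 31671 :=
  have := simple
  threeTr_of_cert Fi23T.rep Fi23T.coset (ts := [([], 2), ([7], 3), ([7, 6, 5, 4, 3, 2, 8, 3, 4, 5, 6, 7], 2)])
    (coverB_of_primB Fi23T.good.toShape prim) (fun _ hu => mem_wgrp g hu) zc_ne zc_sq centralizer_zc
    (by decide) (faith.satS Fi23T.rep Fi23S.ok (by decide +kernel))
    (normalClosure_eq_top_of_simple zc_ne)
/-- `zc` is conjugate to the generator `a` -/
theorem zc_conj : IsConj (ev g zc) (g 0) := isConj_iff.2 ⟨ev g [1, 2, 3, 4, 8, 5, 3, 4, 6, 2, 5, 3, 7, 4, 8, 6, 3, 5, 2, 4, 0, 3, 1, 8, 2, 3, 4, 5, 6, 7], by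
  rw [← ev_single g 0]; exact faith.conjS Fi23T.rep Fi23S.ok (by decide +kernel)⟩

end Cfsg.Agent.H17.Fi23
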