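import Cfsg.Agent.H17.HeT
import Cfsg.Agent.H17.HeU

/-! Order and simplicity. -/

namespace Cfsg.Agent.H17

set_option maxRecDepth 100000
set_option Elab.async false
noncomputable def He.z : List ℕ := [nat_lit 3, nat_lit 5, nat_lit 6]
noncomputable def He.R1 : List (List ℕ) := [unp 8 33 (nat_lit 0x203060503030206050300020306050303020605030002030605030302060503)] ++ He.R0

namespace HeC

noncomputable def net0 : Net := benes 1
 []
 []
noncomputable def net1 : Net := benes 1
 []
 []
noncomputable def net2 : Net := benes 1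
 []
 []
noncomputable def net3 : Net := benes 1
 []
 []
noncomputable def net4 : Net := benes 1
 []
 []
noncomputable def net5 : Net := benes 1
 []
 []
noncomputable def net6 : Net := benes 1
 []
 []
noncomputable def D : TD := ⟨7, 7, 1, 2, 1, 0, [net0, net1, net2, net3, net4, net5, net6]⟩
noncomputable def K : List (List ℕ) := [[nat_lit 0],
  unp 8 27 (nat_lit 0x203060502060503000203060502060503000203060502060503),
  unp 8 8 (nat_lit 0x100010001000100),
  [nat_lit 0, nat_lit 2, nat_lit 0, nat_lit 2],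
  [nat_lit 0, nat_lit 3, nat_lit 0, nat_lit 3],
  [nat_lit 0, nat_lit 4, nat_lit 0, nat_lit 4],
  [nat_lit 0, nat_lit 5, nat_lit 0, nat_lit 5],
  [nat_lit 0, nat_lit 6, nat_lit 0, nat_lit 6],
  [nat_lit 1, nat_lit 2, nat_lit 1, nat_lit 2, nat_lit 1, nat_lit 2],
  [nat_lit 1, nat_lit 3, nat_lit 1, nat_lit 3],
  [nat_lit 1, nat_lit 4, nat_lit 1, nat_lit 4],
  [nat_lit 1, nat_lit 5, nat_lit 1, nat_lit 5],
  [nat_lit 1, nat_lit 6, nat_lit 1, nat_lit 6],
  unp 8 20 (nat_lit 0x302030203020302030203020302030203020302),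
  [nat_lit 2, nat_lit 4, nat_lit 2, nat_lit 4],
  [nat_lit 2, nat_lit 5, nat_lit 2, nat_lit 5],
  [nat_lit 2, nat_lit 6, nat_lit 2, nat_lit 6],
  [nat_lit 3, nat_lit 4, nat_lit 3, nat_lit 4, nat_lit 3, nat_lit 4],
  [nat_lit 3, nat_lit 5, nat_lit 3, nat_lit 5, nat_lit 3, nat_lit 5],
  [nat_lit 3, nat_lit 6, nat_lit 3, nat_lit 6, nat_lit 3, nat_lit 6],
  [nat_lit 4, nat_lit 5, nat_lit 4, nat_lit 5],
  [nat_lit 4, nat_lit 6, nat_lit 4, nat_lit 6],
  unp 8 8 (nat_lit 0x605060506050605),
  [nat_lit 4, nat_lit 6, nat_lit 5, nat_lit 6, nat_lit 5],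
  unp 8 10 (nat_lit 0x10200010200010204),
  unp 8 11 (nat_lit 0x203020302030203020300),
  unp 8 16 (nat_lit 0x6050302060503020605030206050302),
  [nat_lit 0],
  [nat_lit 0, nat_lit 4],
  [nat_lit 0, nat_lit 4, nat_lit 0, nat_lit 3],
  unp 8 11 (nat_lit 0x200030004000300040003),
  unp 8 11 (nat_lit 0x102000403040304030402),
  unp 8 8 (nat_lit 0x500040003000400),
  unp 8 8 (nat_lit 0x600040003000400)]
noncomputable def W : List (List ℕ) := []
noncomputable def t0 : ℕ := nat_lit 0x4
noncomputable def i0 : ℕ := nat_lit 0x1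
noncomputable def t1 : ℕ := nat_lit 0x44
noncomputable def i1 : ℕ := nat_lit 0x1
noncomputable def t2 : ℕ := nat_lit 0x40
noncomputable def i2 : ℕ := nat_lit 0x1
noncomputable def t3 : ℕ := nat_lit 0x14
noncomputable def i3 : ℕ := nat_lit 0x1
noncomputable def t4 : ℕ := nat_lit 0x10
noncomputable def i4 : ℕ := nat_lit 0x1
noncomputable def t5 : ℕ := nat_lit 0x40
noncomputable def i5 : ℕ := nat_lit 0x1
noncomputable def t6 : ℕ := nat_lit 0x40
noncomputable def i6 : ℕ := nat_lit 0x1
noncomputable def C : TT := ⟨4, 2, [t0, t1, t2, t3, t4, t5, t6], 1, [i0, i1, i2, i3, i4, i5, i6], K, W⟩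
noncomputable def rs1 : List Rule := [.rel 0 0 0, .rel 31 0 10, .rel 30 0 10, .rel 29 0 3, .rel 28 0 1, .rel 32 0 7, .rel 33 0 7]
noncomputable def rss : List (List Rule) := [rs1]
noncomputable def ds : List (List (List ℕ)) := [[[nat_lit 1]],
 [[nat_lit 17]],
 [[nat_lit 33]],
 [[nat_lit 49]],
 [[nat_lit 65]],
 [[nat_lit 81]],
 [[nat_lit 97]],
 [[nat_lit 113]],
 [[nat_lit 129]],
 [[nat_lit 145]],
 [[nat_lit 161]],
 [[nat_lit 177]],
 [[nat_lit 193]],
 [[nat_lit 209]],
 [[nat_lit 225]],
 [[nat_lit 241]],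
 [[nat_lit 257]],
 [[nat_lit 273]],
 [[nat_lit 289]],
 [[nat_lit 305]],
 [[nat_lit 321]],
 [[nat_lit 337]],
 [[nat_lit 353]],
 [[nat_lit 369]],
 [[nat_lit 385]],
 [[nat_lit 401]],
 [[nat_lit 417]],
 [[nat_lit 0, nat_lit 209, nat_lit 0],
  [nat_lit 4],
  [nat_lit 3]],
 [unp 16 7 (nat_lit 0x10002000200069002000200010),
  unp 16 13 (nat_lit 0x10002000280020002000280039002800200020002800200010),
  unp 16 7 (nat_lit 0x20002800280039002800280020),
  unp 16 10 (nat_lit 0x13001000200028002800610028002800200010),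
  unp 16 13 (nat_lit 0xb000300100020002800200020006900200020002800200010),
  unp 16 11 (nat_lit 0x200028003000300028002100280030003000280020),
  unp 16 12 (nat_lit 0x300200030002800280030002900300028002800300020),
  unp 16 15 (nat_lit 0x1400030020003000280010001000300059003000100010002800300020),
  unp 16 17 (nat_lit 0x330003002000300028001000280030002000210020003000280010002800300020),
  unp 16 13 (nat_lit 0x10002000280008002000200089002000200008002800200010),
  unp 16 17 (nat_lit 0x140003001000200028000800200030003000790030003000200008002800200010),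
  unp 16 18 (nat_lit 0x300100020002800080020003000280028008100280028003000200008002800200010),
  unp 16 21 (nat_lit 0x1b00030010002000280008002000300028003000300079003000300028003000200008002800200010),
  unp 16 11 (nat_lit 0x80020001000100020006900200010001000200008),
  [nat_lit 8, nat_lit 0, nat_lit 217, nat_lit 0, nat_lit 8],
  [nat_lit 4],
  unp 16 8 (nat_lit 0x300080020000000b1000000200008),
  unp 16 10 (nat_lit 0x4000800200010001000c10010001000200008),
  unp 16 7 (nat_lit 0x8002000200089002000200008),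
  unp 16 24 (nat_lit 0x400930033001000200028000800200030002800300010001000990010001000300028003000200008002800200010),
  unp 16 27 (nat_lit 0x330014000300100020002800080020003000280030001000080000001900000008001000300028003000200008002800200010),
  [nat_lit 16, nat_lit 8, nat_lit 217, nat_lit 8, nat_lit 16, nat_lit 4],
  [nat_lit 3, nat_lit 75],
  [nat_lit 4],
  [nat_lit 4, nat_lit 187],
  [nat_lit 4],
  [nat_lit 4],
  [nat_lit 3, nat_lit 0]],
 [[nat_lit 24, nat_lit 24, nat_lit 193, nat_lit 24, nat_lit 24, nat_lit 0],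
  [nat_lit 24, nat_lit 1, nat_lit 24, nat_lit 3],
  [nat_lit 89, nat_lit 3, nat_lit 32, nat_lit 3],
  [nat_lit 3],
  [nat_lit 3, nat_lit 0, nat_lit 32, nat_lit 0]],
 [[nat_lit 16, nat_lit 16, nat_lit 209, nat_lit 16, nat_lit 16, nat_lit 0],
  unp 16 8 (nat_lit 0x200010001000200079002000100010),
  [nat_lit 16, nat_lit 1, nat_lit 16, nat_lit 11, nat_lit 3, nat_lit 11],
  unp 16 9 (nat_lit 0x1300180003001800030018000000210000),
  [nat_lit 3],
  unp 16 11 (nat_lit 0x180000002000000018000000200000001800000003)],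
 [unp 16 8 (nat_lit 0x2000080008002000a1002000080008),
  [nat_lit 8, nat_lit 32, nat_lit 17, nat_lit 32, nat_lit 8, nat_lit 3],
  unp 16 8 (nat_lit 0x1800080008001800a9001800080008),
  unp 16 13 (nat_lit 0xc0004000c0013000b0003000b0013000b0003000800010008),
  unp 16 10 (nat_lit 0x1b001300100000000300130010002000310020),
  [nat_lit 3],
  unp 16 11 (nat_lit 0x100020001800200018002000180020000000100003)],
 [[nat_lit 40, nat_lit 40, nat_lit 201, nat_lit 40, nat_lit 40, nat_lit 0],
  [nat_lit 40, nat_lit 40, nat_lit 89, nat_lit 40, nat_lit 40, nat_lit 32],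
  [nat_lit 40, nat_lit 17, nat_lit 40, nat_lit 11, nat_lit 3, nat_lit 11],
  [nat_lit 40, nat_lit 105, nat_lit 40, nat_lit 3, nat_lit 24, nat_lit 3],
  [nat_lit 3],
  unp 16 8 (nat_lit 0x20000000180000002000000003)],
 [[nat_lit 48, nat_lit 48, nat_lit 201, nat_lit 48, nat_lit 48, nat_lit 0],
  [nat_lit 48, nat_lit 48, nat_lit 89, nat_lit 48, nat_lit 48, nat_lit 32],
  [nat_lit 48, nat_lit 25, nat_lit 48, nat_lit 11, nat_lit 3, nat_lit 11],
  [nat_lit 48, nat_lit 105, nat_lit 48, nat_lit 3, nat_lit 24, nat_lit 3],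
  [nat_lit 3],
  unp 16 8 (nat_lit 0x20000000180000002000000003)]]
theorem goodB : D.goodB = true := by decide +kernel
theorem good : D.Good := TD.goodB_sound goodB
theorem tree : treeB D C 1 = true := by decide +kernel
theorem b1 : batchB D C 1 rs1 = true := by decide +kernel
theorem allB : AllB D C rss 1 := ⟨b1, trivial⟩
theorem satK : Sat D.ρ K := TD.satB_sound good.toShape (by decide +kernel)
theorem cert : TCert D C rss := ⟨good, satK, tree, allB⟩
theorem der : chkDer 7 K ds ([[0]] ++ He.R1) = true := by decide +kernel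

end HeC

namespace He

noncomputable def levels : List Lev := [⟨0, [[nat_lit 0],
  [nat_lit 1],
  [nat_lit 2],
  [nat_lit 3],
  [nat_lit 4],
  [nat_lit 5],
  [nat_lit 6]], 6, 2058⟩,
 ⟨23, [[nat_lit 0],
  [nat_lit 2],
  [nat_lit 3],
  [nat_lit 4],
  [nat_lit 5],
  [nat_lit 1, nat_lit 0, nat_lit 1],
  unp 8 7 (nat_lit 0x1020306030201)], 5, 1360⟩,
 ⟨1, [[nat_lit 0],
  [nat_lit 3],
  [nat_lit 4],
  [nat_lit 5],
  [nat_lit 1, nat_lit 0, nat_lit 1],
  unp 8 7 (nat_lit 0x1020306030201)], 3, 15⟩,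
 ⟨2, [[nat_lit 0],
  [nat_lit 3],
  [nat_lit 4],
  [nat_lit 5],
  [nat_lit 1, nat_lit 0, nat_lit 1]], 2, 6⟩,
 ⟨208, [[nat_lit 0],
  [nat_lit 4],
  [nat_lit 5],
  [nat_lit 1, nat_lit 0, nat_lit 1]], 1, 2⟩,
 ⟨3, [[nat_lit 0],
  [nat_lit 5],
  [nat_lit 1, nat_lit 0, nat_lit 1]], 1, 2⟩,
 ⟨4, [[nat_lit 0],
  [nat_lit 1, nat_lit 0, nat_lit 1]], 1, 2⟩,
 ⟨5, [[nat_lit 0]], 1, 2⟩]
theorem low : lowB HeT.D 7 levels [] = true := by decide +kernel
/-- a base for the action -/
def base : List ℕ := [5, 4, 3, 208, 2, 1, 23, 0]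
theorem faith : Faith HeT.φ 4030387200 base :=
  HeT.rep.faith' (pres.toGens.wgrp_top (W := HeU0.σ) (by decide +kernel) ▸ HeU.card0) low (by decide +kernel) (by decide +kernel)
theorem prim : primB HeT.D HeT.W [[nat_lit 1],
  [nat_lit 6],
  [nat_lit 1, nat_lit 2, nat_lit 3, nat_lit 2, nat_lit 3, nat_lit 6],
  [nat_lit 6, nat_lit 3, nat_lit 2, nat_lit 1, nat_lit 3, nat_lit 6]] 7 = true := by decide +kernel
theorem z_pow : ev g z ^ 7 = 1 := faith.pow_eq_one HeT.rep (by decide +kernel)
theorem sat1 : Sat g R1 := Sat.append (faith.sat HeT.rep (by decide +kernel)) pres.sat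
theorem der0 : chkDer 7 [[0]] [[unp 16 31 (nat_lit 0x100018000200180010000000000000000000020000000000000010001800020018001000000000000200000010001800020018001000020009)]] ([z] ++ R1) = true := by decide +kernel
theorem simple : IsSimpleGroup Cfsg.Spor.He :=
  simple_of_cert HeT.rep faith (by norm_num) HeT.coset.trans prim z_pow (by decide +kernel) sat1
    HeC.cert rfl rfl rfl rfl der0 HeC.der

end He

end Cfsg.Agent.H17
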