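import Cfsg.Agent.H17.Words
import Cfsg.Prelude.Def_Spor_Fi24

/-! The presentation of Fi24 in letters. -/

namespace Cfsg.Agent.H17.Fi24

open Cfsg.Spor

def lets : List (Fi24.Gen × Bool) := [(.l, true), (.k, true), (.a, true), (.b, true), (.c, true), (.d, true), (.e, true), (.f, true), (.g, true), (.j, true), (.h, true), (.i, true)]
def gens : List Fi24.Gen := [.l, .k, .a, .b, .c, .d, .e, .f, .g, .j, .h, .i]
def enc : Fi24.Gen → ℕ
  | .l => 0
  | .k => 1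
  | .a => 2
  | .b => 3
  | .c => 4
  | .d => 5
  | .e => 6
  | .f => 7
  | .g => 8
  | .j => 9
  | .h => 10
  | .i => 11

theorem mem_gens (a : Fi24.Gen) : a ∈ gens := by cases a <;> decide

theorem letsOK : LetsOK 12 12 lets gens enc Fi24.edges Fi24.extra := by decide +kernel

/-- the letters -/
noncomputable def g : ℕ → Fi24 := letOf lets PresentedGroup.of

noncomputable def R0 : List (List ℕ) := [[nat_lit 0, nat_lit 1, nat_lit 0, nat_lit 1, nat_lit 0, nat_lit 1],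
  [nat_lit 0, nat_lit 2, nat_lit 0, nat_lit 2],
  [nat_lit 0, nat_lit 3, nat_lit 0, nat_lit 3],
  [nat_lit 0, nat_lit 4, nat_lit 0, nat_lit 4],
  [nat_lit 0, nat_lit 5, nat_lit 0, nat_lit 5],
  [nat_lit 0, nat_lit 6, nat_lit 0, nat_lit 6],
  [nat_lit 0, nat_lit 7, nat_lit 0, nat_lit 7],
  [nat_lit 0, nat_lit 8, nat_lit 0, nat_lit 8],
  [nat_lit 0, nat_lit 9, nat_lit 0, nat_lit 9],
  [nat_lit 0, nat_lit 10, nat_lit 0, nat_lit 10],
  [nat_lit 0, nat_lit 11, nat_lit 0, nat_lit 11],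
  [nat_lit 1, nat_lit 2, nat_lit 1, nat_lit 2, nat_lit 1, nat_lit 2],
  [nat_lit 1, nat_lit 3, nat_lit 1, nat_lit 3],
  [nat_lit 1, nat_lit 4, nat_lit 1, nat_lit 4],
  [nat_lit 1, nat_lit 5, nat_lit 1, nat_lit 5],
  [nat_lit 1, nat_lit 6, nat_lit 1, nat_lit 6],
  [nat_lit 1, nat_lit 7, nat_lit 1, nat_lit 7],
  [nat_lit 1, nat_lit 8, nat_lit 1, nat_lit 8],
  [nat_lit 1, nat_lit 9, nat_lit 1, nat_lit 9],
  [nat_lit 1, nat_lit 10, nat_lit 1, nat_lit 10],
  [nat_lit 1, nat_lit 11, nat_lit 1, nat_lit 11],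
  [nat_lit 2, nat_lit 3, nat_lit 2, nat_lit 3, nat_lit 2, nat_lit 3],
  [nat_lit 2, nat_lit 4, nat_lit 2, nat_lit 4],
  [nat_lit 2, nat_lit 5, nat_lit 2, nat_lit 5],
  [nat_lit 2, nat_lit 6, nat_lit 2, nat_lit 6],
  [nat_lit 2, nat_lit 7, nat_lit 2, nat_lit 7],
  [nat_lit 2, nat_lit 8, nat_lit 2, nat_lit 8],
  [nat_lit 2, nat_lit 9, nat_lit 2, nat_lit 9],
  [nat_lit 2, nat_lit 10, nat_lit 2, nat_lit 10],
  [nat_lit 2, nat_lit 11, nat_lit 2, nat_lit 11],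
  [nat_lit 3, nat_lit 4, nat_lit 3, nat_lit 4, nat_lit 3, nat_lit 4],
  [nat_lit 3, nat_lit 5, nat_lit 3, nat_lit 5],
  [nat_lit 3, nat_lit 6, nat_lit 3, nat_lit 6],
  [nat_lit 3, nat_lit 7, nat_lit 3, nat_lit 7],
  [nat_lit 3, nat_lit 8, nat_lit 3, nat_lit 8],
  [nat_lit 3, nat_lit 9, nat_lit 3, nat_lit 9],
  [nat_lit 3, nat_lit 10, nat_lit 3, nat_lit 10],
  [nat_lit 3, nat_lit 11, nat_lit 3, nat_lit 11],
  [nat_lit 4, nat_lit 5, nat_lit 4, nat_lit 5, nat_lit 4, nat_lit 5],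
  [nat_lit 4, nat_lit 6, nat_lit 4, nat_lit 6],
  [nat_lit 4, nat_lit 7, nat_lit 4, nat_lit 7],
  [nat_lit 4, nat_lit 8, nat_lit 4, nat_lit 8],
  [nat_lit 4, nat_lit 9, nat_lit 4, nat_lit 9],
  [nat_lit 4, nat_lit 10, nat_lit 4, nat_lit 10],
  [nat_lit 4, nat_lit 11, nat_lit 4, nat_lit 11],
  [nat_lit 5, nat_lit 6, nat_lit 5, nat_lit 6, nat_lit 5, nat_lit 6],
  [nat_lit 5, nat_lit 7, nat_lit 5, nat_lit 7],
  [nat_lit 5, nat_lit 8, nat_lit 5, nat_lit 8],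
  [nat_lit 5, nat_lit 9, nat_lit 5, nat_lit 9],
  [nat_lit 5, nat_lit 10, nat_lit 5, nat_lit 10, nat_lit 5, nat_lit 10],
  [nat_lit 5, nat_lit 11, nat_lit 5, nat_lit 11],
  [nat_lit 6, nat_lit 7, nat_lit 6, nat_lit 7, nat_lit 6, nat_lit 7],
  [nat_lit 6, nat_lit 8, nat_lit 6, nat_lit 8],
  [nat_lit 6, nat_lit 9, nat_lit 6, nat_lit 9],
  [nat_lit 6, nat_lit 10, nat_lit 6, nat_lit 10],
  [nat_lit 6, nat_lit 11, nat_lit 6, nat_lit 11],
  [nat_lit 7, nat_lit 8, nat_lit 7, nat_lit 8, nat_lit 7, nat_lit 8],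
  [nat_lit 7, nat_lit 9, nat_lit 7, nat_lit 9],
  [nat_lit 7, nat_lit 10, nat_lit 7, nat_lit 10],
  [nat_lit 7, nat_lit 11, nat_lit 7, nat_lit 11],
  [nat_lit 8, nat_lit 9, nat_lit 8, nat_lit 9, nat_lit 8, nat_lit 9],
  [nat_lit 8, nat_lit 10, nat_lit 8, nat_lit 10],
  [nat_lit 8, nat_lit 11, nat_lit 8, nat_lit 11],
  [nat_lit 9, nat_lit 10, nat_lit 9, nat_lit 10],
  [nat_lit 9, nat_lit 11, nat_lit 9, nat_lit 11],
  [nat_lit 10, nat_lit 11, nat_lit 10, nat_lit 11, nat_lit 10, nat_lit 11],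
  unp 8 64 (nat_lit 0x203040506070a0203040506070a0203040506070a0203040506070a0203040506070a0203040506070a0203040506070a0203040506070a0203040506070a00),
  unp 8 238 (nat_lit 0xb0a0509080706050001020304050b0a0509080706050001020304050b0a0509080706050001020304050b0a0509080706050001020304050b0a0509080706050001020304050b0a0509080706050001020304050b0a0509080706050001020304050b0a0509080706050001020304050b0a0509080706050001020304050b0a0509080706050001020304050b0a0509080706050001020304050b0a0509080706050001020304050b0a0509080706050001020304050b0a0509080706050001020304050b0a0509080706050001020304050b0a0509080706050001020304050b0a050908070605000102030405)]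

theorem R0_eq : coxWords 12 gens enc Fi24.edges Fi24.extra = R0 := by decide +kernel

theorem pres : Presents 12 12 R0 g := R0_eq ▸ presents_cox mem_gens letsOK

theorem mk_eq (r : FreeGroup Fi24.Gen) :
    PresentedGroup.mk (coxRelators Fi24.edges ∪ {r | r ∈ Fi24.extra}) r = ev g (wordOf 12 enc r) :=
  mk_eq_ev mem_gens letsOK r

end Cfsg.Agent.H17.Fi24
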