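import Cfsg.Agent.H17.Ext
import Cfsg.Agent.H17.Fi24P
import Cfsg.Agent.H17.Fi24D0
import Cfsg.Agent.H17.Fi24D1
import Cfsg.Agent.H17.Fi24D2
import Cfsg.Agent.H17.Fi24D3
import Cfsg.Agent.H17.Fi24D4
import Cfsg.Agent.H17.Fi24D5
import Cfsg.Agent.H17.Fi24D6

/-! Part of a checked coset table. -/

namespace Cfsg.Agent.H17.Fi24T

set_option maxRecDepth 100000
set_option Elab.async false
noncomputable def D : TD := ⟨12, 16, 306936, 327680, 19, 5, [net0, net1, net2, net3, net4, net5, net6, net7, net8, net9, net10, net11, net12, net12.rev, net14, net14.rev]⟩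
noncomputable def K : List (List ℕ) := [[nat_lit 0, nat_lit 1, nat_lit 0, nat_lit 1, nat_lit 0, nat_lit 1],
  [nat_lit 0, nat_lit 2, nat_lit 0, nat_lit 2],
  [nat_lit 0, nat_lit 3, nat_lit 0, nat_lit 3],
  [nat_lit 0, nat_lit 4, nat_lit 0, nat_lit 4],
  [nat_lit 0, nat_lit 5, nat_lit 0, nat_lit 5],
  [nat_lit 0, nat_lit 6, nat_lit 0, nat_lit 6],
  [nat_lit 0, nat_lit 7, nat_lit 0, nat_lit 7],
  [nat_lit 0, nat_lit 8, nat_lit 0, nat_lit 8],
  [nat_lit 0, nat_lit 9, nat_lit 0, nat_lit 9],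
  [nat_lit 0, nat_lit 10, nat_lit 0, nat_lit 10],
  [nat_lit 0, nat_lit 11, nat_lit 0, nat_lit 11],
  [nat_lit 1, nat_lit 2, nat_lit 1, nat_lit 2, nat_lit 1, nat_lit 2],
  [nat_lit 1, nat_lit 3, nat_lit 1, nat_lit 3],
  [nat_lit 1, nat_lit 4, nat_lit 1, nat_lit 4],
  [nat_lit 1, nat_lit 5, nat_lit 1, nat_lit 5],
  [nat_lit 1, nat_lit 6, nat_lit 1, nat_lit 6],
  [nat_lit 1, nat_lit 7, nat_lit 1, nat_lit 7],
  [nat_lit 1, nat_lit 8, nat_lit 1, nat_lit 8],
  [nat_lit 1, nat_lit 9, nat_lit 1, nat_lit 9],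
  [nat_lit 1, nat_lit 10, nat_lit 1, nat_lit 10],
  [nat_lit 1, nat_lit 11, nat_lit 1, nat_lit 11],
  [nat_lit 2, nat_lit 3, nat_lit 2, nat_lit 3, nat_lit 2, nat_lit 3],
  [nat_lit 2, nat_lit 4, nat_lit 2, nat_lit 4],
  [nat_lit 2, nat_lit 5, nat_lit 2, nat_lit 5],
  [nat_lit 2, nat_lit 6, nat_lit 2, nat_lit 6],
  [nat_lit 2, nat_lit 7, nat_lit 2, nat_lit 7],
  [nat_lit 2, nat_lit 8, nat_lit 2, nat_lit 8],
  [nat_lit 2, nat_lit 9, nat_lit 2, nat_lit 9],
  [nat_lit 2, nat_lit 10, nat_lit 2, nat_lit 10],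
  [nat_lit 2, nat_lit 11, nat_lit 2, nat_lit 11],
  [nat_lit 3, nat_lit 4, nat_lit 3, nat_lit 4, nat_lit 3, nat_lit 4],
  [nat_lit 3, nat_lit 5, nat_lit 3, nat_lit 5],
  [nat_lit 3, nat_lit 6, nat_lit 3, nat_lit 6],
  [nat_lit 3, nat_lit 7, nat_lit 3, nat_lit 7],
  [nat_lit 3, nat_lit 8, nat_lit 3, nat_lit 8],
  [nat_lit 3, nat_lit 9, nat_lit 3, nat_lit 9],
  [nat_lit 3, nat_lit 10, nat_lit 3, nat_lit 10],
  [nat_lit 3, nat_lit 11, nat_lit 3, nat_lit 11],
  [nat_lit 4, nat_lit 5, nat_lit 4, nat_lit 5, nat_lit 4, nat_lit 5],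
  [nat_lit 4, nat_lit 6, nat_lit 4, nat_lit 6],
  [nat_lit 4, nat_lit 7, nat_lit 4, nat_lit 7],
  [nat_lit 4, nat_lit 8, nat_lit 4, nat_lit 8],
  [nat_lit 4, nat_lit 9, nat_lit 4, nat_lit 9],
  [nat_lit 4, nat_lit 10, nat_lit 4, nat_lit 10],
  [nat_lit 4, nat_lit 11, nat_lit 4, nat_lit 11],
  [nat_lit 5, nat_lit 6, nat_lit 5, nat_lit 6, nat_lit 5, nat_lit 6],
  [nat_lit 5, nat_lit 7, nat_lit 5, nat_lit 7],
  [nat_lit 5, nat_lit 8, nat_lit 5, nat_lit 8],
  [nat_lit 5, nat_lit 9, nat_lit 5, nat_lit 9],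
  [nat_lit 5, nat_lit 10, nat_lit 5, nat_lit 10, nat_lit 5, nat_lit 10],
  [nat_lit 5, nat_lit 11, nat_lit 5, nat_lit 11],
  [nat_lit 6, nat_lit 7, nat_lit 6, nat_lit 7, nat_lit 6, nat_lit 7],
  [nat_lit 6, nat_lit 8, nat_lit 6, nat_lit 8],
  [nat_lit 6, nat_lit 9, nat_lit 6, nat_lit 9],
  [nat_lit 6, nat_lit 10, nat_lit 6, nat_lit 10],
  [nat_lit 6, nat_lit 11, nat_lit 6, nat_lit 11],
  [nat_lit 7, nat_lit 8, nat_lit 7, nat_lit 8, nat_lit 7, nat_lit 8],
  [nat_lit 7, nat_lit 9, nat_lit 7, nat_lit 9],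
  [nat_lit 7, nat_lit 10, nat_lit 7, nat_lit 10],
  [nat_lit 7, nat_lit 11, nat_lit 7, nat_lit 11],
  [nat_lit 8, nat_lit 9, nat_lit 8, nat_lit 9, nat_lit 8, nat_lit 9],
  [nat_lit 8, nat_lit 10, nat_lit 8, nat_lit 10],
  [nat_lit 8, nat_lit 11, nat_lit 8, nat_lit 11],
  [nat_lit 9, nat_lit 10, nat_lit 9, nat_lit 10],
  [nat_lit 9, nat_lit 11, nat_lit 9, nat_lit 11],
  [nat_lit 10, nat_lit 11, nat_lit 10, nat_lit 11, nat_lit 10, nat_lit 11],
  unp 8 10 (nat_lit 0xf0f0f0f0f0f0f0f0f00),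
  unp 8 17 (nat_lit 0xc0c0c0c0c0c0c0c0c0c0c0c0c0c0c0c0c),
  unp 8 15 (nat_lit 0xb0a0509080706050001020304050d),
  unp 8 8 (nat_lit 0xa0706050403020f),
  unp 8 68 (nat_lit 0x40506070a0203040506070a0203040506070a0203040506070a0203040506070a0203040506070a020304050b0706070b0a00020304060506070a0203040506070a0203),
  [nat_lit 0, nat_lit 0],
  [nat_lit 1, nat_lit 1],
  [nat_lit 2, nat_lit 2],
  [nat_lit 3, nat_lit 3],
  [nat_lit 4, nat_lit 4],
  [nat_lit 5, nat_lit 5],
  [nat_lit 6, nat_lit 6],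
  [nat_lit 7, nat_lit 7],
  [nat_lit 8, nat_lit 8],
  [nat_lit 9, nat_lit 9],
  [nat_lit 10, nat_lit 10],
  [nat_lit 11, nat_lit 11],
  [nat_lit 13, nat_lit 12],
  [nat_lit 12, nat_lit 13],
  [nat_lit 15, nat_lit 14]]
noncomputable def W : List (List ℕ) := [[nat_lit 2],
  [nat_lit 3],
  [nat_lit 4],
  [nat_lit 5],
  [nat_lit 6],
  [nat_lit 7],
  [nat_lit 8],
  [nat_lit 10],
  [nat_lit 11],
  [nat_lit 9],
  [nat_lit 0]]
noncomputable def C : TT := ⟨11, 4, [t0, t1, t2, t3, t4, t5, t6, t7, t8, t9, t10, t11, t12, t13, t14, t15], 7, [i0, i1, i2, i3, i4, i5, i6, i7, i8, i9, i10, i11, i12, i13, i14, i15], K, W⟩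
noncomputable def rs1 : List Rule := [.bulk 0 48]
noncomputable def rs2 : List Rule := [.bulk 1 12]
noncomputable def rs3 : List Rule := [.bulk 2 12]
noncomputable def rs4 : List Rule := [.bulk 3 12]
noncomputable def rs5 : List Rule := [.bulk 4 12]
noncomputable def rs6 : List Rule := [.bulk 5 12]
noncomputable def rs7 : List Rule := [.bulk 6 12]
noncomputable def rs8 : List Rule := [.bulk 7 12]
noncomputable def rs9 : List Rule := [.bulk 8 12]
noncomputable def rs10 : List Rule := [.bulk 9 12]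
noncomputable def rs11 : List Rule := [.bulk 10 12]
noncomputable def rs12 : List Rule := [.bulk 11 48]
noncomputable def rs13 : List Rule := [.bulk 12 12]
noncomputable def rs14 : List Rule := [.bulk 13 12]
noncomputable def rs15 : List Rule := [.bulk 14 12]
noncomputable def rs16 : List Rule := [.bulk 15 12]
noncomputable def rs17 : List Rule := [.bulk 16 12]
noncomputable def rs18 : List Rule := [.bulk 17 12]
noncomputable def rs19 : List Rule := [.bulk 18 12]
noncomputable def rs20 : List Rule := [.bulk 19 12]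
noncomputable def rs21 : List Rule := [.bulk 20 12]
noncomputable def rs22 : List Rule := [.bulk 21 48]
noncomputable def rs23 : List Rule := [.bulk 22 12]
noncomputable def rs24 : List Rule := [.bulk 23 12]
noncomputable def rs25 : List Rule := [.bulk 24 12]
noncomputable def rs26 : List Rule := [.bulk 25 12]
noncomputable def rs27 : List Rule := [.bulk 26 12]
noncomputable def rs28 : List Rule := [.bulk 27 12]
noncomputable def rs29 : List Rule := [.bulk 28 12]
noncomputable def rs30 : List Rule := [.bulk 29 12]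
noncomputable def rs31 : List Rule := [.bulk 30 48]
noncomputable def rs32 : List Rule := [.bulk 31 12]
noncomputable def rs33 : List Rule := [.bulk 32 12]
noncomputable def rs34 : List Rule := [.bulk 33 12]
noncomputable def rs35 : List Rule := [.bulk 34 12]
noncomputable def rs36 : List Rule := [.bulk 35 12]
noncomputable def rs37 : List Rule := [.bulk 36 12]
noncomputable def rs38 : List Rule := [.bulk 37 12]
noncomputable def rs39 : List Rule := [.bulk 38 48]
noncomputable def rs40 : List Rule := [.bulk 39 12]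
noncomputable def rs41 : List Rule := [.bulk 40 12]
noncomputable def rs42 : List Rule := [.bulk 41 12]
noncomputable def rs43 : List Rule := [.bulk 42 12]
noncomputable def rs44 : List Rule := [.bulk 43 12]
noncomputable def rs45 : List Rule := [.bulk 44 12]
noncomputable def rs46 : List Rule := [.bulk 45 48]
noncomputable def rs47 : List Rule := [.bulk 46 12]
noncomputable def rs48 : List Rule := [.bulk 47 12]
noncomputable def rs49 : List Rule := [.bulk 48 12]
noncomputable def rs50 : List Rule := [.bulk 49 48]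
noncomputable def rs51 : List Rule := [.bulk 50 12]
noncomputable def rs52 : List Rule := [.bulk 51 48]
noncomputable def rs53 : List Rule := [.bulk 52 12]
noncomputable def rs54 : List Rule := [.bulk 53 12]
noncomputable def rs55 : List Rule := [.bulk 54 12]
noncomputable def rs56 : List Rule := [.bulk 55 12]
noncomputable def rs57 : List Rule := [.bulk 56 48]
noncomputable def rs58 : List Rule := [.bulk 57 12]
noncomputable def rs59 : List Rule := [.bulk 58 12]
noncomputable def rs60 : List Rule := [.bulk 59 12]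
noncomputable def rs61 : List Rule := [.bulk 60 48]
noncomputable def rs62 : List Rule := [.bulk 61 12]
noncomputable def rs63 : List Rule := [.bulk 62 12]
noncomputable def rs64 : List Rule := [.bulk 63 12]
noncomputable def rs65 : List Rule := [.bulk 64 12]
noncomputable def rs66 : List Rule := [.bulk 65 48]
noncomputable def rs67 : List Rule := [.bulk 66 1023]
noncomputable def rs68 : List Rule := [.bulk 67 65536]
noncomputable def rs69 : List Rule := [.bulk 68 32767]
noncomputable def rs70 : List Rule := [.bulk 69 255]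
noncomputable def rs71 : List Rule := [.sub 10 0, .bulk 71 2, .bulk 72 2, .sub 0 0, .bulk 73 2, .sub 1 0, .bulk 74 2, .sub 2 0]
noncomputable def rs72 : List Rule := [.bulk 75 2, .rel 70 6893 67]
noncomputable def rs73 : List Rule := [.rel 70 7867 67, .sub 3 0, .bulk 76 2, .sub 4 0, .bulk 77 2]
noncomputable def rs74 : List Rule := [.rel 70 600 37, .sub 5 0, .bulk 78 2, .sub 6 0, .bulk 79 2, .sub 9 0]
noncomputable def rs75 : List Rule := [.bulk 80 2, .sub 7 0, .bulk 81 2, .rel 70 9279 63]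
noncomputable def rs76 : List Rule := [.rel 70 9278 63, .sub 8 0, .bulk 82 2, .bulk 83 2]
noncomputable def rs77 : List Rule := [.bulk 84 2, .bulk 85 2]
noncomputable def rss : List (List Rule) := [rs1, rs2, rs3, rs4, rs5, rs6, rs7, rs8, rs9, rs10, rs11, rs12, rs13, rs14, rs15, rs16, rs17, rs18, rs19, rs20, rs21, rs22, rs23, rs24, rs25, rs26, rs27, rs28, rs29, rs30, rs31, rs32, rs33, rs34, rs35, rs36, rs37, rs38, rs39, rs40, rs41, rs42, rs43, rs44, rs45, rs46, rs47, rs48, rs49, rs50, rs51, rs52, rs53, rs54, rs55, rs56, rs57, rs58, rs59, rs60, rs61, rs62, rs63, rs64, rs65, rs66, rs67, rs68, rs69, rs70, rs71, rs72, rs73, rs74, rs75, rs76, rs77]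
noncomputable def ds : List (List (List ℕ)) := [[[nat_lit 1]],
 [[nat_lit 17]],
 [[nat_lit 33]],
 [[nat_lit 49]],
 [[nat_lit 65]],
 [[nat_lit 81]],
 [[nat_lit 97]],
 [[nat_lit 113]],
 [[nat_lit 129]],
 [[nat_lit 145]],
 [[nat_lit 161]],
 [[nat_lit 177]],
 [[nat_lit 193]],
 [[nat_lit 209]],
 [[nat_lit 225]],
 [[nat_lit 241]],
 [[nat_lit 257]],
 [[nat_lit 273]],
 [[nat_lit 289]],
 [[nat_lit 305]],
 [[nat_lit 321]],
 [[nat_lit 337]],
 [[nat_lit 353]],
 [[nat_lit 369]],
 [[nat_lit 385]],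
 [[nat_lit 401]],
 [[nat_lit 417]],
 [[nat_lit 433]],
 [[nat_lit 449]],
 [[nat_lit 465]],
 [[nat_lit 481]],
 [[nat_lit 497]],
 [[nat_lit 513]],
 [[nat_lit 529]],
 [[nat_lit 545]],
 [[nat_lit 561]],
 [[nat_lit 577]],
 [[nat_lit 593]],
 [[nat_lit 609]],
 [[nat_lit 625]],
 [[nat_lit 641]],
 [[nat_lit 657]],
 [[nat_lit 673]],
 [[nat_lit 689]],
 [[nat_lit 705]],
 [[nat_lit 721]],
 [[nat_lit 737]],
 [[nat_lit 753]],
 [[nat_lit 769]],
 [[nat_lit 785]],
 [[nat_lit 801]],
 [[nat_lit 817]],
 [[nat_lit 833]],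
 [[nat_lit 849]],
 [[nat_lit 865]],
 [[nat_lit 881]],
 [[nat_lit 897]],
 [[nat_lit 913]],
 [[nat_lit 929]],
 [[nat_lit 945]],
 [[nat_lit 961]],
 [[nat_lit 977]],
 [[nat_lit 993]],
 [[nat_lit 1009]],
 [[nat_lit 1025]],
 [[nat_lit 1041]],
 [[nat_lit 1057]],
 [[nat_lit 1073]],
 [],
 [],
 [unp 16 8 (nat_lit 0x580030003000580071005800300030),
  unp 16 10 (nat_lit 0x38003000380030003000380091003800300030),
  unp 16 9 (nat_lit 0xc00030030005800580051005800580030),
  unp 16 8 (nat_lit 0x580030005800580071005800580030),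
  unp 16 9 (nat_lit 0x400500030003000500079005000300030),
  unp 16 8 (nat_lit 0x400030004000400089004000400030),
  unp 16 13 (nat_lit 0x18000300300040001800180030012900300018001800400030),
  unp 16 13 (nat_lit 0x40000300300040001800400040008900400040001800400030),
  unp 16 7 (nat_lit 0x4000000300030020100300030),
  unp 16 7 (nat_lit 0xc001000300030016900300030),
  unp 16 8 (nat_lit 0x580030005800580071005800580030),
  unp 16 11 (nat_lit 0x500003003000580050005000790050005000580030),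
  unp 16 7 (nat_lit 0x4001800300030012900300030),
  [nat_lit 32, nat_lit 241, nat_lit 32, nat_lit 48, nat_lit 32, nat_lit 12],
  unp 16 95 (nat_lit 0x28003000380050001000180020002800300038005000100018002000280030003800500010001800200028003000380050001000180020002800300038005000100018002000280030003800500010001800200028005b004b002c0023000c00030028003000380050001000180020002800300038005000100018001800100050003800300028002000180010005000380030002800200018001004410010001800200028003000380050001000180020002800300038005000100018),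
  unp 16 68 (nat_lit 0x180010005000380030002800200018001000500038003000280030002000180010000000500058003800300038005800280020001800100050003800300028002000180010005000380030002800200018001000500038003000280020001800100050003800300028002000180010005000380030002800200018001000500038003000280003)],
 [],
 [],
 [],
 [],
 [],
 [],
 [],
 [],
 [],
 [],
 [],
 [],
 [],
 [],
 []]
noncomputable def σ : List (List ℕ) := [[nat_lit 0],
  [nat_lit 1],
  [nat_lit 2],
  [nat_lit 3],
  [nat_lit 4],
  [nat_lit 5],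
  [nat_lit 6],
  [nat_lit 7],
  [nat_lit 8],
  [nat_lit 9],
  [nat_lit 10],
  [nat_lit 11],
  unp 8 14 (nat_lit 0xb0a050908070605000102030405),
  unp 8 14 (nat_lit 0x504030201000506070809050a0b),
  unp 8 7 (nat_lit 0xa070605040302),
  unp 8 7 (nat_lit 0x203040506070a)]
theorem shape : D.Shape := TD.shape_of (by decide +kernel)

end Cfsg.Agent.H17.Fi24T
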