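import Cfsg.Agent.H17.Fi24T
import Cfsg.Agent.H17.Grp2

/-! A stabiliser chain for `Fi24`. -/

namespace Cfsg.Agent.H17

set_option maxRecDepth 100000
set_option Elab.async false
namespace Fi24

noncomputable def lowW0 : List (List ℕ) := [[nat_lit 0],
  [nat_lit 1],
  [nat_lit 2],
  [nat_lit 3],
  [nat_lit 4],
  [nat_lit 5],
  [nat_lit 6],
  [nat_lit 7],
  [nat_lit 8],
  [nat_lit 10],
  [nat_lit 11],
  [nat_lit 9]]
theorem lowf0 : Fi24T.D0.fixB lowW0 [] = true := by decide +kernel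
theorem lowo0 : Fi24T.D0.orbGeB 14 lowW0 9 0 306936 = true := by decide +kernel
noncomputable def lowW1 : List (List ℕ) := [[nat_lit 0],
  [nat_lit 2],
  [nat_lit 3],
  [nat_lit 4],
  [nat_lit 5],
  [nat_lit 6],
  [nat_lit 7],
  [nat_lit 8],
  [nat_lit 10],
  [nat_lit 11],
  [nat_lit 9]]
theorem lowf1 : Fi24T.D0.fixB lowW1 [0] = true := by decide +kernel
theorem lowo1 : Fi24T.D0.orbGeB 14 lowW1 13 306436 31671 = true := by decide +kernel
noncomputable def lowW2 : List (List ℕ) := [[nat_lit 0],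
  [nat_lit 2],
  [nat_lit 3],
  [nat_lit 4],
  [nat_lit 5],
  [nat_lit 6],
  [nat_lit 7],
  [nat_lit 8],
  [nat_lit 10],
  [nat_lit 11]]
theorem lowf2 : Fi24T.D0.fixB lowW2 [306436, 0] = true := by decide +kernel
theorem lowo2 : Fi24T.D0.orbGeB 14 lowW2 12 2033 28160 = true := by decide +kernel
noncomputable def lowW3 : List (List ℕ) := [[nat_lit 0],
  [nat_lit 2],
  [nat_lit 3],
  [nat_lit 4],
  [nat_lit 5],
  [nat_lit 6],
  [nat_lit 7],
  [nat_lit 10],
  [nat_lit 11]]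
theorem lowf3 : Fi24T.D0.fixB lowW3 [2033, 306436, 0] = true := by decide +kernel
theorem lowo3 : Fi24T.D0.orbGeB 14 lowW3 9 597 3159 = true := by decide +kernel
noncomputable def lowW4 : List (List ℕ) := [[nat_lit 0],
  [nat_lit 2],
  [nat_lit 3],
  [nat_lit 4],
  [nat_lit 5],
  [nat_lit 6],
  [nat_lit 10],
  [nat_lit 11]]
theorem lowf4 : Fi24T.D0.fixB lowW4 [597, 2033, 306436, 0] = true := by decide +kernel
theorem lowo4 : Fi24T.D0.orbGeB 14 lowW4 7 228 288 = true := by decide +kernel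
noncomputable def lowW5 : List (List ℕ) := [[nat_lit 0],
  [nat_lit 2],
  [nat_lit 3],
  [nat_lit 4],
  [nat_lit 5],
  [nat_lit 10],
  [nat_lit 11]]
theorem lowf5 : Fi24T.D0.fixB lowW5 [228, 597, 2033, 306436, 0] = true := by decide +kernel
theorem lowo5 : Fi24T.D0.orbGeB 14 lowW5 4 91 35 = true := by decide +kernel
noncomputable def lowW6 : List (List ℕ) := [[nat_lit 0],
  [nat_lit 2],
  [nat_lit 3],
  [nat_lit 4],
  [nat_lit 10],
  [nat_lit 11]]
theorem lowf6 : Fi24T.D0.fixB lowW6 [91, 228, 597, 2033, 306436, 0] = true := by decide +kernel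
theorem lowo6 : Fi24T.D0.orbGeB 14 lowW6 2 7 6 = true := by decide +kernel
noncomputable def lowW7 : List (List ℕ) := [[nat_lit 0],
  [nat_lit 2],
  [nat_lit 4],
  [nat_lit 10],
  [nat_lit 11]]
theorem lowf7 : Fi24T.D0.fixB lowW7 [7, 91, 228, 597, 2033, 306436, 0] = true := by decide +kernel
theorem lowo7 : Fi24T.D0.orbGeB 14 lowW7 2 85 3 = true := by decide +kernel
noncomputable def lowW8 : List (List ℕ) := [[nat_lit 0],
  [nat_lit 2],
  [nat_lit 4],
  [nat_lit 10]]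
theorem lowf8 : Fi24T.D0.fixB lowW8 [85, 7, 91, 228, 597, 2033, 306436, 0] = true := by decide +kernel
theorem lowo8 : Fi24T.D0.orbGeB 14 lowW8 1 86 2 = true := by decide +kernel
noncomputable def lowW9 : List (List ℕ) := [[nat_lit 0],
  [nat_lit 2],
  [nat_lit 4]]
theorem lowf9 : Fi24T.D0.fixB lowW9 [86, 85, 7, 91, 228, 597, 2033, 306436, 0] = true := by decide +kernel
theorem lowo9 : Fi24T.D0.orbGeB 14 lowW9 1 19 2 = true := by decide +kernel
noncomputable def lowW10 : List (List ℕ) := [[nat_lit 0],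
  [nat_lit 2]]
theorem lowf10 : Fi24T.D0.fixB lowW10 [19, 86, 85, 7, 91, 228, 597, 2033, 306436, 0] = true := by decide +kernel
theorem lowo10 : Fi24T.D0.orbGeB 14 lowW10 1 8 2 = true := by decide +kernel
noncomputable def lowW11 : List (List ℕ) := [[nat_lit 0]]
theorem lowf11 : Fi24T.D0.fixB lowW11 [8, 19, 86, 85, 7, 91, 228, 597, 2033, 306436, 0] = true := by decide +kernel
theorem lowo11 : Fi24T.D0.orbGeB 14 lowW11 1 1 2 = true := by decide +kernel
noncomputable def lowL : List Lev := [⟨0, lowW0, 9, 306936⟩, ⟨306436, lowW1, 13, 31671⟩, ⟨2033, lowW2, 12, 28160⟩, ⟨597, lowW3, 9, 3159⟩, ⟨228, lowW4, 7, 288⟩, ⟨91, lowW5, 4, 35⟩, ⟨7, lowW6, 2, 6⟩, ⟨85, lowW7, 2, 3⟩, ⟨86, lowW8, 1, 2⟩, ⟨19, lowW9, 1, 2⟩, ⟨8, lowW10, 1, 2⟩, ⟨1, lowW11, 1, 2⟩]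
theorem low : lowB Fi24T.D0 14 lowL [] = true := (lowB_cons lowf0 lowo0 (lowB_cons lowf1 lowo1 (lowB_cons lowf2 lowo2 (lowB_cons lowf3 lowo3 (lowB_cons lowf4 lowo4 (lowB_cons lowf5 lowo5 (lowB_cons lowf6 lowo6 (lowB_cons lowf7 lowo7 (lowB_cons lowf8 lowo8 (lowB_cons lowf9 lowo9 (lowB_cons lowf10 lowo10 (lowB_cons lowf11 lowo11 lowB_nil))))))))))))
theorem prim : primB Fi24T.D0 Fi24T.W [[1], [1, 0, 2, 1]] 9 = true := by decide +kernel

end Fi24

end Cfsg.Agent.H17
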