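import Cfsg.Agent.H17.Fi24S0
import Cfsg.Agent.H17.Fi24S1
import Cfsg.Agent.H17.Fi24S2
import Cfsg.Agent.H17.Fi24T

/-! Direct lookup tables. -/

namespace Cfsg.Agent.H17.Fi24S

set_option maxRecDepth 100000
set_option Elab.async false
noncomputable def S : SD := ⟨9, 511, nat_lit 0x10000000000000000000000000000000000000000000000000000000000000000000000000000000000000000000000000000000000000000000000000000000100000000000000000000000000000000000000000000000000000000000000000000000000000000000000000000000000000000000000000000000000000001000000000000000000000000000000000000000000000000000000000000000000000000000000000000000000000000000000000000000000000000000000010000000000000000000000000000000000000000000000000000000000000000000000000000000000000000000000000000000000000000000000000000000100000000000000000000000000000000000000000000000000000000000000000000000000000000000000000000000000000000000000000000000000000001000000000000000000000000000000000000000000000000000000000000000000000000000000000000000000000000000000000000000000000000000000010000000000000000000000000000000000000000000000000000000000000000000000000000000000000000000000000000000000000000000000000000000100000000000000000000000000000000000000000000000000000000000000000000000000000000000000000000000000000000000000000000000000000001000000000000000000000000000000000000000000000000000000000000000000000000000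00000000000000000000000000000000000000000000000000001000000000000000000000000000000000000000000000000000000000000000000000000000000000000000000000000000000000000000000000000000000010000000000000000000000000000000000000000000000000000000000000000000000000000000000000000000000000000000000000000000000000000000100000000000000000000000000000000000000000000000000000000000000000000000000000000000000000000000000000000000000000000000000000001000000000000000000000000000000000000000000000000000000000000000000000000000000000000000000000000000000000000000000000000000000010000000000000000000000000000000000000000000000000000000000000000000000000000000000000000000000000000000000000000000000000000000100000000000000000000000000000000000000000000000000000000000000000000000000000000000000000000000000000000000000000000000000000001000000000000000000000000000000000000000000000000000000000000000000000000000000000000000000000000000000000000000000000000000000010000000000000000000000000000000000000000000000000000000000000000000000000000000000000000000000000000000000000000000000000000000100000000000000000000000000000000000000000000000000000000000000000000000000000000000000000000000000000000000000000000000000000001, nat_lit 0x7fffffffffffffffffffffffffffffffffffffffffffffffffffffffffffffffffffffffffffffffffffffffffffffffffffffffffffffffffffffffffffffff, [t0, t1, t2, t3, t4, t5, t6, t7, t8,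 t9, t10, t11]⟩
theorem c0 : S.letB Fi24T.D0 0 = true := by decide +kernel
theorem c1 : S.letB Fi24T.D0 1 = true := by decide +kernel
theorem c2 : S.letB Fi24T.D0 2 = true := by decide +kernel
theorem c3 : S.letB Fi24T.D0 3 = true := by decide +kernel
theorem c4 : S.letB Fi24T.D0 4 = true := by decide +kernel
theorem c5 : S.letB Fi24T.D0 5 = true := by decide +kernel
theorem c6 : S.letB Fi24T.D0 6 = true := by decide +kernel
theorem c7 : S.letB Fi24T.D0 7 = true := by decide +kernel
theorem c8 : S.letB Fi24T.D0 8 = true := by decide +kernel
theorem c9 : S.letB Fi24T.D0 9 = true := by decide +kernel
theorem c10 : S.letB Fi24T.D0 10 = true := by decide +kernel
theorem c11 : S.letB Fi24T.D0 11 = true := by decide +kernel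
theorem ok : S.OK Fi24T.D0 := SD.ok_of Fi24T.good0.toShape (by decide +kernel) (forall_lt_succ (forall_lt_succ (forall_lt_succ (forall_lt_succ (forall_lt_succ (forall_lt_succ (forall_lt_succ (forall_lt_succ (forall_lt_succ (forall_lt_succ (forall_lt_succ (forall_lt_succ forall_lt_zero c0) c1) c2) c3) c4) c5) c6) c7) c8) c9) c10) c11)

end Cfsg.Agent.H17.Fi24S
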