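import Mathlib

/-! Solvable groups containing a full `p^(a+1)`-cycle (for S2276). -/

set_option autoImplicit false
set_option linter.style.haveILetI false

namespace Cfsg.Agent.H17.Fp

open Polynomial
open scoped commutatorElement

theorem exists_elem_ab (G : Type*) [Group G] [Finite G] [hs : Group.IsSolvable G] [Nontrivial G] :
    ∃ (q : ℕ) (N : Subgroup G), q.Prime ∧ N.Normal ∧ (∃ x ∈ N, x ≠ 1) ∧
      (∀ x ∈ N, ∀ y ∈ N, x * y = y * x) ∧ ∀ x ∈ N, x ^ q = 1 := by
  classical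
  have hex : ∃ n, derivedSeries G n = ⊥ := hs.solvable
  have h0 : Nat.find hex ≠ 0 := by
    intro h
    have := Nat.find_spec hex
    rw [h, derivedSeries_zero] at this
    exact top_ne_bot this
  obtain ⟨k, hk⟩ := Nat.exists_eq_succ_of_ne_zero h0
  have h1 : derivedSeries G (k + 1) = ⊥ := by
    have := Nat.find_spec hex
    rwa [hk] at this
  have h2 : derivedSeries G k ≠ ⊥ := Nat.find_min hex (by omega)
  set A := derivedSeries G k with hA
  have hn : A.Normal := derivedSeries_normal G k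
  have hc : ∀ x ∈ A, ∀ y ∈ A, x * y = y * x := by
    intro x hx y hy
    have : ⁅x, y⁆ ∈ derivedSeries G (k + 1) := Subgroup.commutator_mem_commutator hx hy
    rw [h1, Subgroup.mem_bot, commutatorElement_eq_one_iff_mul_comm] at this
    exact this
  obtain ⟨⟨y, hy⟩, hy1⟩ := (Subgroup.ne_bot_iff_exists_ne_one).1 h2
  have hy1' : y ≠ 1 := fun h => hy1 (Subtype.ext h)
  have ho : orderOf y ≠ 1 := fun h => hy1' (orderOf_eq_one_iff.1 h)
  obtain ⟨q, hq, d, hd⟩ := Nat.exists_prime_and_dvd ho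
  have hpos : 0 < orderOf y := orderOf_pos y
  refine ⟨q, { carrier := {x | x ∈ A ∧ x ^ q = 1}, mul_mem' := ?_, one_mem' := ?_, inv_mem' := ?_ },
    hq, ⟨?_⟩, ⟨y ^ d, ⟨A.pow_mem hy d, ?_⟩, ?_⟩, ?_, ?_⟩
  · rintro x z ⟨hx, hx'⟩ ⟨hz, hz'⟩
    refine ⟨A.mul_mem hx hz, ?_⟩
    rw [Commute.mul_pow (hc x hx z hz), hx', hz', one_mul]
  · exact ⟨A.one_mem, one_pow q⟩
  · rintro x ⟨hx, hx'⟩
    exact ⟨A.inv_mem hx, by rw [inv_pow, hx', inv_one]⟩
  · rintro x ⟨hx, hx'⟩ g
    exact ⟨hn.conj_mem x hx g, by rw [conj_pow, hx', mul_one, mul_inv_cancel]⟩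
  · rw [← pow_mul, mul_comm, ← hd, pow_orderOf_eq_one]
  · intro h
    have h3 := orderOf_dvd_of_pow_eq_one h
    have h4 : 0 < d := Nat.pos_of_ne_zero (by rintro rfl; omega)
    have h5 := Nat.le_of_dvd h4 h3
    have := hq.two_le
    nlinarith
  · rintro x ⟨hx, -⟩ z ⟨hz, -⟩
    exact hc x hx z hz
  · rintro x ⟨-, hx⟩
    exact hx

theorem nilp (p k c : ℕ) [Fact p.Prime] (V : Type*) [AddCommGroup V] [Finite V] [Module (ZMod p) V]
    (hc : Nat.card V = p ^ k) (φ : Module.End (ZMod p) V) (hφ : φ ^ (p ^ c) = 1) :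
    (φ - 1) ^ k = 0 ∧ ∀ j, k + 1 ≤ p ^ j → ∑ i ∈ Finset.range (p ^ j), φ ^ i = 0 := by
  have hp : p.Prime := Fact.out
  haveI : Module.Finite (ZMod p) V := Module.Finite.of_finite
  have hr : Module.finrank (ZMod p) V = k := by
    have h := Module.natCard_eq_pow_finrank (K := ZMod p) (V := V)
    rw [hc, Nat.card_zmod] at h
    exact (Nat.pow_right_injective hp.two_le h).symm
  have hpow : ∀ j, ((X : (ZMod p)[X]) - 1) ^ (p ^ j) = X ^ (p ^ j) - 1 := by
    intro j
    rw [sub_pow_char_pow, one_pow]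
  have hnil : IsNilpotent (φ - 1) := by
    refine ⟨p ^ c, ?_⟩
    have := congrArg (aeval φ) (hpow c)
    simpa [hφ] using this
  have h1 : (φ - 1) ^ k = 0 := by
    have := LinearMap.aeval_self_charpoly (φ - 1)
    rw [hnil.charpoly_eq_X_pow_finrank, hr] at this
    simpa using this
  refine ⟨h1, fun j hj => ?_⟩
  have hg : ∑ i ∈ Finset.range (p ^ j), (X : (ZMod p)[X]) ^ i = (X - 1) ^ (p ^ j - 1) := by
    have hne : (X : (ZMod p)[X]) - 1 ≠ 0 := by
      have := X_sub_C_ne_zero (1 : ZMod p)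
      simpa using this
    apply mul_left_cancel₀ hne
    rw [mul_geom_sum, ← pow_succ', Nat.sub_add_cancel (by omega), hpow]
  have := congrArg (aeval φ) hg
  simp only [map_sum, map_pow, aeval_X, map_sub, map_one] at this
  rw [this]
  obtain ⟨e, he⟩ : ∃ e, p ^ j - 1 = k + e := ⟨p ^ j - 1 - k, by omega⟩
  rw [he, pow_add, h1, zero_mul]

theorem nilp1 (p k c : ℕ) [Fact p.Prime] (V : Type*) [CommGroup V] [Finite V]
    [Module (ZMod p) (Additive V)]
    (hc : Nat.card V = p ^ k) (φ : Monoid.End V) (hφ : ∀ v, (φ ^ (p ^ c)) v = v) :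
    (k = 1 → ∀ v, φ v = v) ∧ ∀ j, k + 1 ≤ p ^ j → ∀ v, ∏ i ∈ Finset.range (p ^ j), (φ ^ i) v = 1 := by
  obtain ⟨ψ, hψ⟩ : ∃ ψ : Module.End (ZMod p) (Additive V), ∀ v, ψ v = Additive.ofMul (φ v.toMul) :=
    ⟨AddMonoidHom.toZModLinearMap p (MonoidHom.toAdditive φ), fun v => rfl⟩
  have hk : ∀ (i : ℕ) v, (ψ ^ i) v = Additive.ofMul ((φ ^ i) v.toMul) := by
    intro i
    induction i with
    | zero => intro v; rfl
    | succ i ih => intro v; rw [pow_succ', pow_succ', Module.End.mul_apply, ih, hψ]; rfl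
  have h := nilp p k c (Additive V) hc ψ (by
    apply LinearMap.ext
    intro v
    rw [hk, hφ]; rfl)
  refine ⟨?_, fun j hj v => ?_⟩
  · rintro rfl v
    have h3 := h.1
    rw [pow_one, sub_eq_zero] at h3
    have h4 := hψ (Additive.ofMul v)
    rw [h3] at h4
    exact (Additive.ofMul.injective h4).symm
  · have h3 := LinearMap.congr_fun (h.2 j hj) (Additive.ofMul v)
    rw [LinearMap.sum_apply] at h3
    simp only [hk] at h3
    rw [← ofMul_prod] at h3
    exact Additive.ofMul.injective h3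

theorem nilp2 (p k c : ℕ) [Fact p.Prime] (V : Type*) [CommGroup V] [Finite V] (hV : ∀ v : V, v ^ p = 1)
    (hc : Nat.card V = p ^ k) (φ : Monoid.End V) (hφ : ∀ v, (φ ^ (p ^ c)) v = v) :
    (k = 1 → ∀ v, φ v = v) ∧ ∀ j, k + 1 ≤ p ^ j → ∀ v, ∏ i ∈ Finset.range (p ^ j), (φ ^ i) v = 1 :=
  @nilp1 p k c _ V _ _ (AddCommGroup.zmodModule (fun v => by
    apply Additive.toMul.injective
    simpa using hV v.toMul)) hc φ hφ

theorem core (p a m : ℕ) [Fact p.Prime] (hp3 : 3 ≤ p) (hm : m = p ^ (a + 1))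
    (G : Type*) [Group G] [Finite G] [MulAction G (ZMod m)] [FaithfulSMul G (ZMod m)]
    (T B : G) (hT : ∀ x : ZMod m, T • x = x + 1) (c : ℕ) (hB : B ^ (p ^ c) = 1)
    (x0 : ZMod m) (hx0 : IsUnit (B • (x0 + (p ^ a : ℕ)) - B • x0))
    (x : ZMod m) (l : ℕ) (hl : l.Coprime p) (h1 : ((T * B) ^ l) • x = x) (h2 : (T * B) • x ≠ x) :
    ¬ Group.IsSolvable G := by
  classical
  intro hs
  have hp : p.Prime := Fact.out
  have hm0 : m ≠ 0 := by rw [hm]; exact pow_ne_zero _ hp.ne_zero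
  haveI : NeZero m := ⟨hm0⟩
  haveI : Nontrivial G := ⟨⟨T * B, 1, fun h => h2 (by rw [h, one_smul])⟩⟩
  obtain ⟨q, N, hq, hN, ⟨n0, hn0, hn1⟩, hc, hq1⟩ := exists_elem_ab G
  have hTk : ∀ (k : ℕ) (y : ZMod m), (T ^ k) • y = y + k := by
    intro k
    induction k with
    | zero => simp
    | succ k ih => intro y; rw [pow_succ, mul_smul, hT, ih]; push_cast; ring
  let R : ZMod m → ZMod m → Prop := fun y z => ∃ n ∈ N, n • y = z
  have Rg : ∀ (g : G) y z, R y z → R (g • y) (g • z) := by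
    rintro g y z ⟨n, hn, rfl⟩
    exact ⟨g * n * g⁻¹, hN.conj_mem n hn g, by simp [mul_smul]⟩
  have Radd : ∀ t y z, R y z → R (y + t) (z + t) := by
    intro t y z h
    have := Rg (T ^ t.val) y z h
    simpa [hTk] using this
  have Rtr : ∀ y z w, R y z → R z w → R y w := by
    rintro y z w ⟨n, hn, rfl⟩ ⟨n', hn', rfl⟩
    exact ⟨n' * n, N.mul_mem hn' hn, mul_smul _ _ _⟩
  have Rmul : ∀ d, R 0 d → ∀ r, R 0 (r * d) := by
    intro d hd r
    have : ∀ k : ℕ, R 0 (k * d) := by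
      intro k
      induction k with
      | zero => exact ⟨1, N.one_mem, by simp⟩
      | succ k ih =>
        refine Rtr _ _ _ ih ?_
        have := Radd (k * d) _ _ hd
        convert this using 1
        · simp
        · push_cast; ring
    simpa using this r.val
  have R0 : ∀ y z, R y z → R 0 (z - y) := by
    intro y z h
    have := Radd (-y) _ _ h
    simpa [sub_eq_add_neg] using this
  have Rs : R 0 ((p ^ a : ℕ) : ZMod m) := by
    obtain ⟨y, hy⟩ : ∃ y : ZMod m, n0 • y ≠ y := by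
      by_contra h
      push Not at h
      exact hn1 (FaithfulSMul.eq_of_smul_eq_smul (α := ZMod m) (fun y => by rw [h, one_smul]))
    have hd := R0 y (n0 • y) ⟨n0, hn0, rfl⟩
    set d := n0 • y - y with hdd
    have hd0 : d ≠ 0 := sub_ne_zero.2 hy
    have hv : d.val ≠ 0 := fun h => hd0 ((ZMod.val_eq_zero d).1 h)
    obtain ⟨j, e, he, hje⟩ := Nat.exists_eq_pow_mul_and_not_dvd hv p hp.ne_one
    have hj : j ≤ a := by
      by_contra h
      have h3 : p ^ (a + 1) ∣ d.val := hje ▸ Dvd.dvd.mul_right (pow_dvd_pow p (by omega)) e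
      have h4 := Nat.le_of_dvd (Nat.pos_of_ne_zero hv) h3
      have h5 := ZMod.val_lt d
      omega
    have hu : IsUnit (e : ZMod m) := by
      rw [ZMod.isUnit_iff_coprime, hm]
      exact Nat.Coprime.pow_right _ ((Nat.Prime.coprime_iff_not_dvd hp).2 he).symm
    obtain ⟨e', he'⟩ := hu.exists_left_inv
    have := Rmul d hd ((p ^ (a - j) : ℕ) * e')
    convert this using 1
    have h6 : d = ((p ^ j * e : ℕ) : ZMod m) := by rw [← hje]; simp
    rw [h6]
    have h7 : p ^ a = p ^ (a - j) * p ^ j := by rw [← pow_add]; congr 1; omega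
    rw [h7]; push_cast
    linear_combination (-(p : ZMod m) ^ (a - j) * (p : ZMod m) ^ j) * he'
  have Rall : ∀ y z, R y z := by
    have h3 : R x0 (x0 + (p ^ a : ℕ)) := by
      have := Radd x0 _ _ Rs
      simpa [add_comm] using this
    have h4 := R0 _ _ (Rg B _ _ h3)
    obtain ⟨e', he'⟩ := hx0.exists_left_inv
    intro y z
    have h5 := Radd y _ _ (Rmul _ h4 ((z - y) * e'))
    rw [mul_assoc, he'] at h5
    simpa using h5
  have hreg : ∀ n ∈ N, ∀ y : ZMod m, n • y = y → n = 1 := by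
    intro n hn y hy
    refine FaithfulSMul.eq_of_smul_eq_smul (α := ZMod m) (fun z => ?_)
    obtain ⟨n', hn', rfl⟩ := Rall y z
    rw [← mul_smul, hc n hn n' hn', mul_smul, hy, one_smul]
  have hcard : Nat.card N = p ^ (a + 1) := by
    rw [← hm, ← Nat.card_zmod m]
    refine Nat.card_eq_of_bijective (fun n : N => (n : G) • (0 : ZMod m)) ⟨?_, ?_⟩
    · intro n n' h
      have h' : (n : G) • (0 : ZMod m) = (n' : G) • (0 : ZMod m) := h
      have := hreg ((n' : G)⁻¹ * n) (N.mul_mem (N.inv_mem n'.2) n.2) 0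
        (by rw [mul_smul, h', inv_smul_smul])
      exact Subtype.ext (inv_mul_eq_one.1 this).symm
    · intro z
      obtain ⟨n, hn, h⟩ := Rall 0 z
      exact ⟨⟨n, hn⟩, h⟩
  have hqp : q = p := by
    haveI := Fact.mk hq
    have h3 : orderOf n0 = q := orderOf_eq_prime (hq1 n0 hn0) hn1
    have h4 : orderOf n0 ∣ Nat.card N := N.orderOf_dvd_natCard hn0
    rw [h3, hcard] at h4
    exact (Nat.prime_dvd_prime_iff_eq hq hp).1 (hq.dvd_of_dvd_pow h4)
  subst hqp
  letI cg : CommGroup N := { (inferInstance : Group N) with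
    mul_comm := fun y z => Subtype.ext (hc _ y.2 _ z.2) }
  have hV : ∀ v : N, v ^ q = 1 := fun v => Subtype.ext (hq1 _ v.2)
  let φ : G → Monoid.End N := fun g => (MulAut.conjNormal g).toMonoidHom
  have hφ : ∀ g (v : N), ((φ g v : N) : G) = g * (v : G) * g⁻¹ := fun g v => rfl
  have hφk : ∀ g (k : ℕ) (v : N), (((φ g ^ k) v : N) : G) = g ^ k * (v : G) * (g ^ k)⁻¹ := by
    intro g k
    induction k with
    | zero => intro v; simp
    | succ k ih =>
      intro v
      have : (φ g ^ (k + 1)) v = φ g ((φ g ^ k) v) := by rw [pow_succ']; rfl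
      rw [this, hφ, ih]; group
  have hφ1 : ∀ (g : G) (k : ℕ), g ^ k = 1 → ∀ v, (φ g ^ k) v = v := by
    intro g k h v
    apply Subtype.ext
    rw [hφk, h]; simp
  have hTm : T ^ (q ^ (a + 1)) = 1 := by
    refine FaithfulSMul.eq_of_smul_eq_smul (α := ZMod m) (fun z => ?_)
    rw [hTk, ← hm]; simp
  rcases Nat.eq_zero_or_pos a with rfl | ha
  · have key : ∀ (g : G) (k : ℕ), g ^ (q ^ k) = 1 → ∀ n ∈ N, g * n = n * g := by
      intro g k h n hn
      have h3 := (nilp2 q (0 + 1) k N hV hcard (φ g) (hφ1 g _ h)).1 rfl ⟨n, hn⟩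
      have h4 := hφ g ⟨n, hn⟩
      rw [h3] at h4
      have h5 : n = g * n * g⁻¹ := h4
      rw [← mul_inv_eq_iff_eq_mul]; exact h5.symm
    obtain ⟨n, hn, hnx⟩ := Rall x ((T * B) • x)
    have hcm : Commute (T * B) n :=
      Commute.mul_left (key T _ hTm n hn) (key B _ hB n hn)
    have h3 : ∀ k : ℕ, (n ^ k) • x = ((T * B) ^ k) • x := by
      intro k
      induction k with
      | zero => simp
      | succ k ih =>
        rw [pow_succ', mul_smul, ih, ← mul_smul, ← (hcm.pow_left k).eq, mul_smul, hnx, ← mul_smul,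
          ← pow_succ]
    have h4 := hreg _ (N.pow_mem hn l) x (by rw [h3, h1])
    have h5 : n = 1 := by
      have := pow_gcd_eq_one.2 ⟨h4, hq1 n hn⟩
      rwa [hl, pow_one] at this
    exact h2 (by rw [← hnx, h5, one_smul])
  · obtain ⟨n, hn, hn0⟩ := Rall 0 1
    have h3 : ∀ k : ℕ, ((∏ i ∈ Finset.range k, (φ T ^ i) ⟨n, hn⟩ : N) : G) • (0 : ZMod m)
        = (k : ZMod m) := by
      intro k
      induction k with
      | zero => rw [Finset.prod_range_zero]; simp
      | succ k ih =>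
        rw [Finset.prod_range_succ_comm]
        change (((φ T ^ k) ⟨n, hn⟩ : N) * ((∏ i ∈ Finset.range k, (φ T ^ i) ⟨n, hn⟩ : N)) : G) • (0 : ZMod m) = _
        rw [mul_smul, ih, hφk]
        have : ((T ^ k)⁻¹) • (k : ZMod m) = 0 := by
          rw [inv_smul_eq_iff, hTk, zero_add]
        rw [mul_smul, mul_smul, this]
        change (T ^ k) • (n • (0 : ZMod m)) = _
        rw [hn0, hTk]; push_cast; ring
    have hle : a + 1 + 1 ≤ q ^ a := by
      have h4 : 3 ^ a ≤ q ^ a := Nat.pow_le_pow_left hp3 a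
      have h5 : ∀ b : ℕ, b + 1 + 2 ≤ 3 ^ (b + 1) := by
        intro b
        induction b with
        | zero => norm_num
        | succ b ih => rw [pow_succ]; omega
      obtain ⟨b, rfl⟩ := Nat.exists_eq_succ_of_ne_zero ha.ne'
      have := h5 b
      simp only [Nat.succ_eq_add_one] at *
      omega
    have h4 := (nilp2 q (a + 1) _ N hV hcard (φ T) (hφ1 T _ hTm)).2 a hle ⟨n, hn⟩
    have h5 := h3 (q ^ a)
    rw [h4] at h5
    change (1 : G) • (0 : ZMod m) = _ at h5
    rw [one_smul] at h5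
    have h6 := (ZMod.natCast_eq_zero_iff _ _).1 h5.symm
    have h7 := Nat.le_of_dvd (pow_pos hq.pos a) h6
    have h8 : q ^ a < q ^ (a + 1) := Nat.pow_lt_pow_right hq.one_lt (by omega)
    omega

end Cfsg.Agent.H17.Fp
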