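import Cfsg.Agent.H17.Fp1

/-! Good pairs of permutations, transfer lemmas and small models (for S2276). -/

set_option autoImplicit false
set_option linter.style.haveILetI false

namespace Cfsg.Agent.H17.Fp

open Equiv Equiv.Perm
open scoped commutatorElement

def Good (p : ℕ) {Ω : Type*} (a b : Perm Ω) : Prop :=
  (∃ (x : Ω) (l : ℕ), l.Coprime p ∧ ((a * b) ^ l) x = x ∧ (a * b) x ≠ x) ∧
    ¬ Group.IsSolvable ↥(Subgroup.closure ({a, b} : Set (Perm Ω)))

theorem tr_surj {G H : Type*} [Group G] [Group H] (φ : G →* H) (a b : G)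
    (h : Group.IsSolvable ↥(Subgroup.closure ({a, b} : Set G))) :
    Group.IsSolvable ↥(Subgroup.closure ({φ a, φ b} : Set H)) := by
  rw [← Set.image_pair, ← MonoidHom.map_closure]
  exact Group.isSolvable_of_surjective (φ.subgroupMap_surjective _)

theorem tr_inj {G H : Type*} [Group G] [Group H] (φ : G →* H) (hφ : Function.Injective φ) (a b : G)
    (h : Group.IsSolvable ↥(Subgroup.closure ({φ a, φ b} : Set H))) :
    Group.IsSolvable ↥(Subgroup.closure ({a, b} : Set G)) := by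
  rw [← Set.image_pair, ← MonoidHom.map_closure] at h
  exact Group.isSolvable_of_isSolvable_injective
    (f := (Subgroup.equivMapOfInjective _ φ hφ).toMonoidHom) (MulEquiv.injective _)

theorem fix_of {Ω : Type*} {p c l : ℕ} (w : Perm Ω) (hw : w ^ (p ^ c) = 1) (hl : l.Coprime p) (z : Ω)
    (hz : (w ^ l) z = z) : w z = z := by
  have h1 : Function.IsPeriodicPt w l z := by
    rw [Function.IsPeriodicPt, Function.IsFixedPt, ← Perm.coe_pow]; exact hz
  have h2 : Function.IsPeriodicPt w (p ^ c) z := by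
    rw [Function.IsPeriodicPt, Function.IsFixedPt, ← Perm.coe_pow, hw]; rfl
  have h3 := h1.gcd h2
  rw [Nat.Coprime.pow_right c hl] at h3
  exact h3

theorem Good.symm {p : ℕ} {Ω : Type*} {a b : Perm Ω} (h : Good p a b) : Good p b a := by
  obtain ⟨⟨x, l, hl, h1, h2⟩, h3⟩ := h
  refine ⟨⟨b x, l, hl, ?_, ?_⟩, by rwa [Set.pair_comm]⟩
  · have : (b * a) ^ l * b = b * (a * b) ^ l := by
      have h4 : b * a = b * (a * b) * b⁻¹ := by group
      rw [h4, conj_pow]; group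
    rw [← Perm.mul_apply, this, Perm.mul_apply, h1]
  · intro h
    exact h2 (b.injective h)

theorem Good.restrict {p : ℕ} {Ω α : Type*} (e : Ω ↪ α) {u w : Perm α} {a b : Perm Ω}
    (hu : ∀ i, u (e i) = e (a i)) (hw : ∀ i, w (e i) = e (b i)) (h : Good p a b) : Good p u w := by
  obtain ⟨⟨x, l, hl, h1, h2⟩, h3⟩ := h
  let R : Subgroup (Perm α × Perm Ω) :=
    { carrier := {s | ∀ i, s.1 (e i) = e (s.2 i)}
      mul_mem' := fun {s t} hs ht i => by
        simp only [Prod.fst_mul, Prod.snd_mul, Perm.mul_apply]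
        rw [ht i, hs]
      one_mem' := fun i => rfl
      inv_mem' := fun {s} hs i => by
        simp only [Prod.fst_inv, Prod.snd_inv]
        rw [Perm.inv_eq_iff_eq, hs]; simp }
  let A : R := ⟨(u, a), hu⟩
  let B : R := ⟨(w, b), hw⟩
  refine ⟨⟨e x, l, hl, ?_, ?_⟩, fun hs => h3 ?_⟩
  · have := ((A * B) ^ l).2 x
    change ((u * w) ^ l) (e x) = e (((a * b) ^ l) x) at this
    rw [this, h1]
  · intro h
    rw [Perm.mul_apply, hw, hu] at h
    exact h2 (e.injective h)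
  · have h4 := tr_inj ((MonoidHom.fst _ _).comp R.subtype) (by
      rintro ⟨⟨s, t⟩, hst⟩ ⟨⟨s', t'⟩, hst'⟩ h
      obtain rfl : s = s' := h
      obtain rfl : t = t' := by
        ext i
        exact e.injective ((hst i).symm.trans (hst' i))
      rfl) A B hs
    exact tr_surj ((MonoidHom.snd _ _).comp R.subtype) A B h4

theorem Good.conj {p : ℕ} {Ω : Type*} {a b : Perm Ω} (h : Good p a b) (c : Perm Ω) :
    Good p (c * a * c⁻¹) (c * b * c⁻¹) :=
  Good.restrict c.toEmbedding (fun i => by simp) (fun i => by simp) h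

def All (p : ℕ) {Ω : Type*} [Fintype Ω] [DecidableEq Ω] (a b : Perm Ω) : Prop :=
  ∀ ε : ℤˣ, ∃ π : Perm Ω, sign π = ε ∧ Good p a (π * b * π⁻¹)

theorem red {p : ℕ} {Ω α : Type*} [Fintype Ω] [DecidableEq Ω] [Fintype α] [DecidableEq α]
    (e f : Ω ↪ α) {u w : Perm α} {a b : Perm Ω}
    (hu : ∀ i, u (e i) = e (a i)) (hw : ∀ i, w (f i) = f (b i)) (h : All p a b) : All p u w := by
  intro ε
  obtain ⟨g0, hg0⟩ := Perm.exists_extending_pair f e f.injective e.injective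
  obtain ⟨π, hπ, hg⟩ := h (ε * sign g0)
  refine ⟨π.viaFintypeEmbedding e * g0, ?_, Good.restrict e hu (fun i => ?_) hg⟩
  · rw [map_mul, viaFintypeEmbedding_sign, hπ, mul_assoc, Int.units_mul_self, mul_one]
  · have h1 : ∀ j, (π.viaFintypeEmbedding e * g0) (f j) = e (π j) := by
      intro j
      rw [Perm.mul_apply, hg0, Perm.viaFintypeEmbedding_apply_image]
    obtain ⟨j, rfl⟩ := π.surjective i
    rw [← h1 j]
    simp only [Perm.mul_apply (f := _ * w), Perm.mul_apply (f := π * b), Perm.coe_inv,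
      Equiv.symm_apply_apply]
    rw [Perm.mul_apply (g := w), hw, h1]; rfl

theorem All.symm {p : ℕ} {Ω : Type*} [Fintype Ω] [DecidableEq Ω] {a b : Perm Ω} (h : All p a b) :
    All p b a := by
  intro ε
  obtain ⟨π, hπ, hg⟩ := h ε
  refine ⟨π⁻¹, by rw [sign_inv, hπ], ?_⟩
  have := (hg.conj π⁻¹).symm
  convert this using 1
  group

theorem model {p : ℕ} {Ω : Type*} [Fintype Ω] [DecidableEq Ω] {u w : Perm Ω} (a b c : Perm Ω)
    (hu : IsConj a u) (hw : IsConj w b) (hc : sign c = -1) (h1 : Good p a b)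
    (h2 : Good p a (c * b * c⁻¹)) : All p u w := by
  intro ε
  obtain ⟨σ, rfl⟩ := isConj_iff.1 hu
  obtain ⟨τ, rfl⟩ := isConj_iff.1 hw
  by_cases h : sign (σ * τ) = ε
  · refine ⟨σ * τ, h, ?_⟩
    convert h1.conj σ using 1
    group
  · refine ⟨σ * c * τ, ?_, ?_⟩
    · simp only [map_mul, hc] at h ⊢
      rcases Int.units_eq_one_or (sign σ) with h3 | h3 <;>
      rcases Int.units_eq_one_or (sign τ) with h4 | h4 <;>
      rcases Int.units_eq_one_or ε with h5 | h5 <;> simp_all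
    · convert h2.conj σ using 1
      group

theorem ctype {Ω : Type*} [Fintype Ω] [DecidableEq Ω] {q : ℕ} (hq : q.Prime) {σ : Perm Ω}
    (h1 : σ ^ q = 1) (h2 : σ ≠ 1) :
    ∃ n, σ.cycleType = Multiset.replicate (n + 1) q ∧ σ.support.card = (n + 1) * q := by
  haveI := Fact.mk hq
  have ho : orderOf σ = q := orderOf_eq_prime h1 h2
  obtain ⟨n, hn⟩ := cycleType_prime_order (σ := σ) (ho ▸ hq)
  rw [ho] at hn
  refine ⟨n, hn, ?_⟩
  rw [← sum_cycleType, hn, Multiset.sum_replicate, smul_eq_mul]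

theorem conj_of {Ω : Type*} [Fintype Ω] [DecidableEq Ω] {q : ℕ} (hq : q.Prime) {σ τ : Perm Ω}
    (h1 : σ ^ q = 1) (h2 : σ ≠ 1) (h3 : τ ^ q = 1) (h4 : τ ≠ 1)
    (h : σ.support.card = τ.support.card) : IsConj σ τ := by
  obtain ⟨n, hn, hn'⟩ := ctype hq h1 h2
  obtain ⟨k, hk, hk'⟩ := ctype hq h3 h4
  rw [hn', hk'] at h
  have := Nat.eq_of_mul_eq_mul_right hq.pos h
  rw [isConj_iff_cycleType_eq, hn, hk, this]

theorem nonsolv {G : Type*} [Group G] (a b y z : G) (hy : y ∈ Subgroup.closure ({a, b} : Set G))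
    (hz : z ∈ Subgroup.closure ({a, b} : Set G)) (ha : a ≠ 1)
    (key : a = z * (a * (y * a * y⁻¹) * a⁻¹ * (y * a * y⁻¹)⁻¹) * z⁻¹) :
    ¬ Group.IsSolvable ↥(Subgroup.closure ({a, b} : Set G)) := by
  let A : Subgroup.closure ({a, b} : Set G) := ⟨a, Subgroup.subset_closure (by simp)⟩
  let Y : Subgroup.closure ({a, b} : Set G) := ⟨y, hy⟩
  let Z : Subgroup.closure ({a, b} : Set G) := ⟨z, hz⟩
  have key' : A = Z * ⁅A, Y * A * Y⁻¹⁆ * Z⁻¹ := Subtype.ext key
  refine not_isSolvable_of_mem_derivedSeries (g := A) (fun h => ha (congrArg Subtype.val h)) fun n => ?_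
  induction n with
  | zero => exact Subgroup.mem_top A
  | succ n ih =>
    rw [key']
    exact (derivedSeries_normal _ _).conj_mem _
      (Subgroup.commutator_mem_commutator ih ((derivedSeries_normal _ _).conj_mem _ ih _)) _

theorem memA {G : Type*} [Group G] (a b : G) : a ∈ Subgroup.closure ({a, b} : Set G) :=
  Subgroup.subset_closure (by simp)
theorem memB {G : Type*} [Group G] (a b : G) : b ∈ Subgroup.closure ({a, b} : Set G) :=
  Subgroup.subset_closure (by simp)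

def a0 : Perm (Fin 5) := ⟨![1, 2, 0, 3, 4], ![2, 0, 1, 3, 4], by decide, by decide⟩
def b0 : Perm (Fin 5) := ⟨![0, 1, 3, 4, 2], ![0, 1, 4, 2, 3], by decide, by decide⟩
def c0 : Perm (Fin 5) := ⟨![1, 0, 2, 3, 4], ![1, 0, 2, 3, 4], by decide, by decide⟩
theorem good0 : Good 3 a0 b0 :=
  ⟨⟨0, 5, by norm_num, by decide, by decide⟩,
    nonsolv a0 b0 (b0 * a0 * a0 * b0) (b0) (Subgroup.mul_mem _ (Subgroup.mul_mem _ (Subgroup.mul_mem _ (memB _ _) (memA _ _)) (memA _ _)) (memB _ _)) (memB _ _) (by decide) (by decide)⟩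
theorem all0 (u w : Perm (Fin 5)) (hu : u ^ 3 = 1) (hu1 : u ≠ 1) (hw : w ^ 3 = 1) (hw1 : w ≠ 1)
    (h1 : u.support.card = 3) (h2 : w.support.card = 3) : All 3 u w :=
  model a0 b0 c0 (conj_of Nat.prime_three (by decide) (by decide) hu hu1 (by rw [h1]; decide))
    (conj_of Nat.prime_three hw hw1 (by decide) (by decide) (by rw [h2]; decide)) (by decide) good0
    (by rw [show c0 * b0 * c0⁻¹ = b0 by decide]; exact good0)

def a1 : Perm (Fin 6) := ⟨![1, 2, 0, 3, 4, 5], ![2, 0, 1, 3, 4, 5], by decide, by decide⟩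
def b1 : Perm (Fin 6) := ⟨![0, 1, 3, 4, 2, 5], ![0, 1, 4, 2, 3, 5], by decide, by decide⟩
def c1 : Perm (Fin 6) := ⟨![0, 5, 2, 3, 4, 1], ![0, 5, 2, 3, 4, 1], by decide, by decide⟩
theorem good1 : Good 3 a1 b1 :=
  ⟨⟨0, 5, by norm_num, by decide, by decide⟩,
    nonsolv a1 b1 (b1 * a1 * a1 * b1) (b1) (Subgroup.mul_mem _ (Subgroup.mul_mem _ (Subgroup.mul_mem _ (memB _ _) (memA _ _)) (memA _ _)) (memB _ _)) (memB _ _) (by decide) (by decide)⟩
theorem all1 (u w : Perm (Fin 6)) (hu : u ^ 3 = 1) (hu1 : u ≠ 1) (hw : w ^ 3 = 1) (hw1 : w ≠ 1)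
    (h1 : u.support.card = 3) (h2 : w.support.card = 3) : All 3 u w :=
  model a1 b1 c1 (conj_of Nat.prime_three (by decide) (by decide) hu hu1 (by rw [h1]; decide))
    (conj_of Nat.prime_three hw hw1 (by decide) (by decide) (by rw [h2]; decide)) (by decide) good1
    (by rw [show c1 * b1 * c1⁻¹ = b1 by decide]; exact good1)

def a2 : Perm (Fin 6) := ⟨![1, 2, 0, 3, 4, 5], ![2, 0, 1, 3, 4, 5], by decide, by decide⟩
def b2 : Perm (Fin 6) := ⟨![1, 3, 4, 0, 5, 2], ![3, 0, 5, 1, 2, 4], by decide, by decide⟩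
def c2 : Perm (Fin 6) := ⟨![2, 4, 0, 5, 1, 3], ![2, 4, 0, 5, 1, 3], by decide, by decide⟩
theorem good2 : Good 3 a2 b2 :=
  ⟨⟨0, 4, by norm_num, by decide, by decide⟩,
    nonsolv a2 b2 (b2) (b2 * b2 * a2 * b2) (memB _ _) (Subgroup.mul_mem _ (Subgroup.mul_mem _ (Subgroup.mul_mem _ (memB _ _) (memB _ _)) (memA _ _)) (memB _ _)) (by decide) (by decide)⟩
theorem all2 (u w : Perm (Fin 6)) (hu : u ^ 3 = 1) (hu1 : u ≠ 1) (hw : w ^ 3 = 1) (hw1 : w ≠ 1)
    (h1 : u.support.card = 3) (h2 : w.support.card = 6) : All 3 u w :=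
  model a2 b2 c2 (conj_of Nat.prime_three (by decide) (by decide) hu hu1 (by rw [h1]; decide))
    (conj_of Nat.prime_three hw hw1 (by decide) (by decide) (by rw [h2]; decide)) (by decide) good2
    (by rw [show c2 * b2 * c2⁻¹ = b2 by decide]; exact good2)

def a3 : Perm (Fin 6) := ⟨![1, 2, 0, 4, 5, 3], ![2, 0, 1, 5, 3, 4], by decide, by decide⟩
def b3 : Perm (Fin 6) := ⟨![0, 1, 3, 4, 2, 5], ![0, 1, 4, 2, 3, 5], by decide, by decide⟩
def c3 : Perm (Fin 6) := ⟨![0, 5, 2, 3, 4, 1], ![0, 5, 2, 3, 4, 1], by decide, by decide⟩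
theorem good3 : Good 3 a3 b3 :=
  ⟨⟨0, 4, by norm_num, by decide, by decide⟩,
    nonsolv a3 b3 (b3) (b3 * b3 * a3 * b3) (memB _ _) (Subgroup.mul_mem _ (Subgroup.mul_mem _ (Subgroup.mul_mem _ (memB _ _) (memB _ _)) (memA _ _)) (memB _ _)) (by decide) (by decide)⟩
theorem all3 (u w : Perm (Fin 6)) (hu : u ^ 3 = 1) (hu1 : u ≠ 1) (hw : w ^ 3 = 1) (hw1 : w ≠ 1)
    (h1 : u.support.card = 6) (h2 : w.support.card = 3) : All 3 u w :=
  model a3 b3 c3 (conj_of Nat.prime_three (by decide) (by decide) hu hu1 (by rw [h1]; decide))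
    (conj_of Nat.prime_three hw hw1 (by decide) (by decide) (by rw [h2]; decide)) (by decide) good3
    (by rw [show c3 * b3 * c3⁻¹ = b3 by decide]; exact good3)

def a4 : Perm (Fin 6) := ⟨![1, 2, 0, 4, 5, 3], ![2, 0, 1, 5, 3, 4], by decide, by decide⟩
def b4 : Perm (Fin 6) := ⟨![1, 3, 5, 0, 2, 4], ![3, 0, 4, 1, 5, 2], by decide, by decide⟩
def c4 : Perm (Fin 6) := ⟨![2, 5, 0, 4, 3, 1], ![2, 5, 0, 4, 3, 1], by decide, by decide⟩
theorem good4 : Good 3 a4 b4 :=
  ⟨⟨0, 5, by norm_num, by decide, by decide⟩,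
    nonsolv a4 b4 (b4 * a4 * a4 * b4) (b4) (Subgroup.mul_mem _ (Subgroup.mul_mem _ (Subgroup.mul_mem _ (memB _ _) (memA _ _)) (memA _ _)) (memB _ _)) (memB _ _) (by decide) (by decide)⟩
theorem all4 (u w : Perm (Fin 6)) (hu : u ^ 3 = 1) (hu1 : u ≠ 1) (hw : w ^ 3 = 1) (hw1 : w ≠ 1)
    (h1 : u.support.card = 6) (h2 : w.support.card = 6) : All 3 u w :=
  model a4 b4 c4 (conj_of Nat.prime_three (by decide) (by decide) hu hu1 (by rw [h1]; decide))
    (conj_of Nat.prime_three hw hw1 (by decide) (by decide) (by rw [h2]; decide)) (by decide) good4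
    (by rw [show c4 * b4 * c4⁻¹ = b4 by decide]; exact good4)

theorem small5 (u w : Perm (Fin 5)) (hu : u ^ 3 = 1) (hu1 : u ≠ 1) (hw : w ^ 3 = 1) (hw1 : w ≠ 1) :
    All 3 u w := by
  obtain ⟨n, -, hn⟩ := ctype Nat.prime_three hu hu1
  obtain ⟨k, -, hk⟩ := ctype Nat.prime_three hw hw1
  have h1 := u.support.card_le_univ
  have h2 := w.support.card_le_univ
  rw [Fintype.card_fin] at h1 h2
  exact all0 u w hu hu1 hw hw1 (by omega) (by omega)

theorem small6 (u w : Perm (Fin 6)) (hu : u ^ 3 = 1) (hu1 : u ≠ 1) (hw : w ^ 3 = 1) (hw1 : w ≠ 1) :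
    All 3 u w := by
  obtain ⟨n, -, hn⟩ := ctype Nat.prime_three hu hu1
  obtain ⟨k, -, hk⟩ := ctype Nat.prime_three hw hw1
  have h1 := u.support.card_le_univ
  have h2 := w.support.card_le_univ
  rw [Fintype.card_fin] at h1 h2
  rcases (by omega : u.support.card = 3 ∨ u.support.card = 6) with h3 | h3 <;>
  rcases (by omega : w.support.card = 3 ∨ w.support.card = 6) with h4 | h4
  · exact all1 u w hu hu1 hw hw1 h3 h4
  · exact all2 u w hu hu1 hw hw1 h3 h4
  · exact all3 u w hu hu1 hw hw1 h3 h4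
  · exact all4 u w hu hu1 hw hw1 h3 h4

end Cfsg.Agent.H17.Fp
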