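import Cfsg.Agent.H17.Fp2

/-! The full-cycle case and invariant subsets (for S2276). -/

set_option autoImplicit false
set_option linter.style.haveILetI false

namespace Cfsg.Agent.H17.Fp

open Equiv Equiv.Perm

theorem good_of (p a m : ℕ) (hp : p.Prime) (hp3 : 3 ≤ p) (hm : m = p ^ (a + 1))
    (b : Perm (ZMod m)) (c : ℕ) (hb : b ^ (p ^ c) = 1)
    (x0 : ZMod m) (hx0 : IsUnit (b (x0 + (p ^ a : ℕ)) - b x0))
    (x : ZMod m) (l : ℕ) (hl : l.Coprime p) (h1 : ((Equiv.addRight (1 : ZMod m) * b) ^ l) x = x)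
    (h2 : (Equiv.addRight (1 : ZMod m) * b) x ≠ x) : Good p (Equiv.addRight (1 : ZMod m)) b := by
  haveI := Fact.mk hp
  haveI : NeZero m := ⟨by rw [hm]; exact pow_ne_zero _ hp.ne_zero⟩
  refine ⟨⟨x, l, hl, h1, h2⟩, ?_⟩
  exact core p a m hp3 hm _ ⟨_, memA _ _⟩ ⟨_, memB _ _⟩ (fun y => rfl) c (Subtype.ext hb) x0 hx0 x l hl
    h1 h2

theorem assign {m k : ℕ} [NeZero m] (z : Fin k → ZMod m) (t : Fin k → ℕ) (hz : Function.Injective z)
    (ht : Function.Injective t) (htm : ∀ i, t i < m) (hk : k + 2 ≤ m) (ε : ℤˣ) :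
    ∃ π : Perm (ZMod m), sign π = ε ∧ ∀ i, π (z i) = (t i : ZMod m) := by
  have ht' : Function.Injective (fun i => (t i : ZMod m)) := by
    intro i j h
    have h' : (t i : ZMod m) = (t j : ZMod m) := h
    have := congrArg ZMod.val h'
    rw [ZMod.val_cast_of_lt (htm i), ZMod.val_cast_of_lt (htm j)] at this
    exact ht this
  obtain ⟨π, hπ⟩ := Perm.exists_extending_pair z _ hz ht'
  by_cases h : sign π = ε
  · exact ⟨π, h, hπ⟩
  · have hc : 1 < (Finset.univ \ Finset.univ.image (fun i => (t i : ZMod m))).card := by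
      rw [Finset.card_sdiff_of_subset (Finset.subset_univ _), Finset.card_univ, ZMod.card,
        Finset.card_image_of_injective _ ht', Finset.card_univ, Fintype.card_fin]
      omega
    obtain ⟨y, hy, y', hy', hne⟩ := Finset.one_lt_card.1 hc
    simp only [Finset.mem_sdiff, Finset.mem_univ, true_and, Finset.mem_image, not_exists] at hy hy'
    refine ⟨swap y y' * π, ?_, fun i => ?_⟩
    · rw [map_mul, sign_swap hne]
      rcases Int.units_eq_one_or (sign π) with h3 | h3 <;>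
      rcases Int.units_eq_one_or ε with h5 | h5 <;> simp_all
    · rw [Perm.mul_apply, hπ, swap_apply_of_ne_of_ne (hy i) (hy' i)]

def b5 : Perm (ZMod 5) := (⟨![1, 2, 4, 0, 3], ![3, 0, 1, 4, 2], by decide, by decide⟩ : Perm (Fin 5))

theorem big5 (w : Perm (ZMod 5)) (hw : w ^ 5 = 1) (hw1 : w ≠ 1) :
    All 5 (Equiv.addRight (1 : ZMod 5)) w := by
  have h5 : Nat.Prime 5 := by norm_num
  obtain ⟨k, -, hk⟩ := ctype h5 hw hw1
  have h2 := w.support.card_le_univ
  rw [ZMod.card] at h2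
  have h3 : w.support.card = 5 := by omega
  refine model _ b5 (swap 1 2) (IsConj.refl _)
    (conj_of h5 hw hw1 (by decide) (by decide) (by rw [h3]; decide)) (sign_swap (by decide)) ?_ ?_
  · exact good_of 5 0 5 h5 (by norm_num) rfl _ 1 (by decide) 0 (by decide) 0 2 (by norm_num)
      (by decide) (by decide)
  · exact good_of 5 0 5 h5 (by norm_num) rfl _ 1 (by decide) 0 (by decide) 0 3 (by norm_num)
      (by decide) (by decide)

theorem big (p a m : ℕ) [NeZero m] (hp : p.Prime) (hp3 : 3 ≤ p) (hm : m = p ^ (a + 1)) (h5 : 5 ≤ m)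
    (w : Perm (ZMod m)) (hw : w ^ m = 1) (hw1 : w ≠ 1) : All p (Equiv.addRight (1 : ZMod m)) w := by
  rcases h5.eq_or_lt with h6 | h6
  · have hp5 : p = 5 := by
      have : p ∣ 5 := by rw [h6, hm]; exact dvd_pow_self p (by omega)
      exact (Nat.prime_dvd_prime_iff_eq hp (by norm_num)).1 this
    subst hp5
    subst h6
    exact big5 w hw hw1
  have hw' : w ^ (p ^ (a + 1)) = 1 := by rw [← hm]; exact hw
  have hc2 : Nat.Coprime 2 p := (Nat.coprime_primes Nat.prime_two hp).2 (by omega)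
  obtain ⟨s, hs⟩ : ∃ s, s = p ^ a := ⟨_, rfl⟩
  have hs1 : 1 ≤ s := hs ▸ Nat.one_le_pow _ _ hp.pos
  have hms : m = p * s := by rw [hm, hs, pow_succ']
  have hm3 : 3 * s ≤ m := by rw [hms]; exact Nat.mul_le_mul_right s hp3
  have hcast : ∀ i j : ℕ, i < m → j < m → i ≠ j → (i : ZMod m) ≠ j := by
    intro i j hi hj hij h
    have := congrArg ZMod.val h
    rw [ZMod.val_cast_of_lt hi, ZMod.val_cast_of_lt hj] at this
    exact hij this
  have hm1 : ((m - 1 : ℕ) : ZMod m) + 1 = 0 := by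
    rw [← Nat.cast_succ, Nat.succ_eq_add_one, Nat.sub_add_cancel (by omega), ZMod.natCast_self]
  have f2 : ∀ z, w (w z) = z → w z = z := fun z h => fix_of w hw' hc2 z (by rw [pow_two]; exact h)
  have fin : ∀ π : Perm (ZMod m), IsUnit ((π * w * π⁻¹) (s : ZMod m) - (π * w * π⁻¹) 0) →
      ∀ x y : ZMod m, x ≠ y → (π * w * π⁻¹) x + 1 = y → (π * w * π⁻¹) y + 1 = x →
      Good p (Equiv.addRight (1 : ZMod m)) (π * w * π⁻¹) := by
    intro π hu x y hxy h1 h2
    refine good_of p a m hp hp3 hm _ (a + 1) (by rw [conj_pow, hw']; simp) 0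
      (by rw [zero_add, ← hs]; exact hu) x 2 hc2 ?_ ?_
    · rw [pow_two]
      change (π * w * π⁻¹) ((π * w * π⁻¹) x + 1) + 1 = x
      rw [h1, h2]
    · change (π * w * π⁻¹) x + 1 ≠ x
      rw [h1]; exact hxy.symm
  have ap : ∀ (π : Perm (ZMod m)) y, (π * w * π⁻¹) (π y) = π (w y) := by intro π y; simp
  intro ε
  by_cases hA : ∃ z, w z ≠ z ∧ w (w (w z)) ≠ z
  · obtain ⟨z, hz1, hz3⟩ := hA
    have hz2 : w (w z) ≠ z := fun h => hz1 (f2 z h)
    obtain ⟨π, hπ, h⟩ := assign ![z, w z, w (w z), w (w (w z))] ![0, s, s + 1, m - 1]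
      (by
        intro i j
        fin_cases i <;> fin_cases j <;> simp [hz1, hz2, hz3, hz1.symm, hz2.symm, hz3.symm])
      (by intro i j; fin_cases i <;> fin_cases j <;> simp <;> omega)
      (by intro i; fin_cases i <;> simp <;> omega) (by omega) ε
    have h0 : π z = ((0 : ℕ) : ZMod m) := h 0
    have h1 : π (w z) = (s : ZMod m) := h 1
    have h2 : π (w (w z)) = ((s + 1 : ℕ) : ZMod m) := h 2
    have h3 : π (w (w (w z))) = ((m - 1 : ℕ) : ZMod m) := h 3
    rw [Nat.cast_zero] at h0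
    refine ⟨π, hπ, fin π ?_ 0 ((s + 1 : ℕ) : ZMod m) ?_ ?_ ?_⟩
    · rw [← h1, ← h0, ap, ap, h1, h2]; simp
    · simpa using hcast 0 (s + 1) (by omega) (by omega) (by omega)
    · rw [← h0, ap, h1]; simp
    · rw [← h2, ap, h3, hm1]
  · push Not at hA
    obtain ⟨z, hz1⟩ : ∃ z, w z ≠ z := by
      by_contra h
      push Not at h
      exact hw1 (Equiv.ext h)
    have hz2 : w (w z) ≠ z := fun h => hz1 (f2 z h)
    have hz3 := hA z hz1
    have hp3' : p = 3 := by
      by_contra h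
      exact hz1 (fix_of w hw' ((Nat.coprime_primes Nat.prime_three hp).2 (Ne.symm h)) z
        (by rw [pow_three]; exact hz3))
    subst hp3'
    have hs3 : 3 ≤ s := by
      rcases a with _ | a
      · simp at hs; omega
      · rw [hs, pow_succ]
        have := Nat.one_le_pow a 3 (by norm_num)
        omega
    obtain ⟨d, hd⟩ : ∃ d, d ∉ ({z, w z, w (w z)} : Finset (ZMod m)) := by
      by_contra h
      push Not at h
      have h1 : (Finset.univ : Finset (ZMod m)) ⊆ {z, w z, w (w z)} := fun d _ => h d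
      have h2 := Finset.card_le_card h1
      have h3 : ({z, w z, w (w z)} : Finset (ZMod m)).card ≤ 3 := Finset.card_le_three
      rw [Finset.card_univ, ZMod.card] at h2
      omega
    simp only [Finset.mem_insert, Finset.mem_singleton, not_or] at hd
    obtain ⟨d1, d2, d3⟩ := hd
    by_cases hd : w d = d
    · obtain ⟨π, hπ, h⟩ := assign ![z, w z, w (w z), d] ![0, s, s - 2, s - 1]
        (by
          intro i j
          fin_cases i <;> fin_cases j <;>
            simp [hz1, hz2, hz1.symm, hz2.symm, d1, d2, d3, Ne.symm d1, Ne.symm d2, Ne.symm d3])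
        (by intro i j; fin_cases i <;> fin_cases j <;> simp <;> omega)
        (by intro i; fin_cases i <;> simp <;> omega) (by omega) ε
      have h0 : π z = ((0 : ℕ) : ZMod m) := h 0
      have h1 : π (w z) = (s : ZMod m) := h 1
      have h2 : π (w (w z)) = ((s - 2 : ℕ) : ZMod m) := h 2
      have h3 : π d = ((s - 1 : ℕ) : ZMod m) := h 3
      rw [Nat.cast_zero] at h0
      rw [Nat.cast_sub (by omega)] at h2
      refine ⟨π, hπ, fin π ?_ (s : ZMod m) ((s - 1 : ℕ) : ZMod m) ?_ ?_ ?_⟩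
      · rw [← h1, ← h0, ap, ap, h1, h2]
        have : IsUnit ((2 : ℕ) : ZMod m) := by
          rw [ZMod.isUnit_iff_coprime, hm]; exact Nat.Coprime.pow_right _ hc2
        convert this.neg using 1
        ring
      · exact hcast s (s - 1) (by omega) (by omega) (by omega)
      · rw [← h1, ap, h2, Nat.cast_sub (by omega)]; push_cast; ring
      · rw [← h3, ap, hd, h3, Nat.cast_sub (by omega)]; push_cast; ring
    · have e1 : w d ≠ z := fun h => d3 (w.injective (h.trans hz3.symm))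
      obtain ⟨π, hπ, h⟩ := assign ![z, w z, w (w z), d, w d] ![0, s, s - 1, s + 1, m - 1]
        (by
          intro i j
          fin_cases i <;> fin_cases j <;>
            simp [hz1, hz2, hz1.symm, hz2.symm, d1, d2, d3, Ne.symm d1, Ne.symm d2, Ne.symm d3, hd,
              Ne.symm hd, e1, e1.symm])
        (by intro i j; fin_cases i <;> fin_cases j <;> simp <;> omega)
        (by intro i; fin_cases i <;> simp <;> omega) (by omega) ε
      have h0 : π z = ((0 : ℕ) : ZMod m) := h 0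
      have h1 : π (w z) = (s : ZMod m) := h 1
      have h2 : π (w (w z)) = ((s - 1 : ℕ) : ZMod m) := h 2
      have h3 : π d = ((s + 1 : ℕ) : ZMod m) := h 3
      have h4 : π (w d) = ((m - 1 : ℕ) : ZMod m) := h 4
      rw [Nat.cast_zero] at h0
      rw [Nat.cast_sub (by omega)] at h2
      refine ⟨π, hπ, fin π ?_ 0 ((s + 1 : ℕ) : ZMod m) ?_ ?_ ?_⟩
      · rw [← h1, ← h0, ap, ap, h1, h2]; simp
      · simpa using hcast 0 (s + 1) (by omega) (by omega) (by omega)
      · rw [← h0, ap, h1]; simp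
      · rw [← h3, ap, h4, hm1]

theorem cyc_emb {α : Type*} (p j : ℕ) (hp : p.Prime) (u : Perm α) (x : α)
    (h1 : (u ^ (p ^ (j + 1))) x = x) (h2 : (u ^ (p ^ j)) x ≠ x) :
    ∃ e : ZMod (p ^ (j + 1)) ↪ α, e 0 = x ∧ ∀ i, u (e i) = e (i + 1) := by
  haveI : NeZero (p ^ (j + 1)) := ⟨pow_ne_zero _ hp.ne_zero⟩
  haveI := Fact.mk hp
  have hper : Function.minimalPeriod u x = p ^ (j + 1) :=
    Function.minimalPeriod_eq_prime_pow
      (by rw [Function.IsPeriodicPt, Function.IsFixedPt, ← Perm.coe_pow]; exact h2)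
      (by rw [Function.IsPeriodicPt, Function.IsFixedPt, ← Perm.coe_pow]; exact h1)
  refine ⟨⟨fun i => u^[i.val] x, fun i k h => ?_⟩, ?_, fun i => ?_⟩
  · exact ZMod.val_injective _ ((Function.iterate_eq_iterate_iff_of_lt_minimalPeriod
      (by rw [hper]; exact ZMod.val_lt i) (by rw [hper]; exact ZMod.val_lt k)).1 h)
  · change u^[(0 : ZMod (p ^ (j + 1))).val] x = x
    rw [ZMod.val_zero]; rfl
  · change u (u^[i.val] x) = u^[(i + 1).val] x
    have h3 : (i + 1).val = (i.val + 1) % Function.minimalPeriod u x := by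
      rw [hper, ← ZMod.val_natCast]; simp
    rw [h3, Function.iterate_mod_minimalPeriod_eq, Function.iterate_succ_apply']

theorem orb {α : Type*} [DecidableEq α] (p j : ℕ) (hp : p.Prime) (u : Perm α) (x : α)
    (h1 : (u ^ (p ^ (j + 1))) x = x) (h2 : (u ^ (p ^ j)) x ≠ x) :
    ∃ O : Finset α, x ∈ O ∧ O.card = p ^ (j + 1) ∧ (∀ y, u y ∈ O ↔ y ∈ O) ∧
      ∀ S : Finset α, (∀ y, u y ∈ S ↔ y ∈ S) → x ∈ S → O ⊆ S := by
  haveI : NeZero (p ^ (j + 1)) := ⟨pow_ne_zero _ hp.ne_zero⟩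
  obtain ⟨e, he0, he⟩ := cyc_emb p j hp u x h1 h2
  refine ⟨Finset.univ.map e, by simp [← he0], by simp, fun y => ?_, fun S hS hx y hy => ?_⟩
  · simp only [Finset.mem_map, Finset.mem_univ, true_and]
    constructor
    · rintro ⟨i, hi⟩
      refine ⟨i - 1, u.injective ?_⟩
      rw [he, sub_add_cancel, hi]
    · rintro ⟨i, rfl⟩
      exact ⟨i + 1, (he i).symm⟩
  · obtain ⟨i, -, rfl⟩ := Finset.mem_map.1 hy
    have : ∀ k : ℕ, e k ∈ S := by
      intro k
      induction k with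
      | zero => rw [Nat.cast_zero, he0]; exact hx
      | succ k ih => rw [Nat.cast_succ, ← he]; exact (hS _).2 ih
    simpa using this i.val

theorem inv_subset {α : Type*} [DecidableEq α] (p : ℕ) (hp : p.Prime) (u : Perm α) (j : ℕ) :
    ∀ (k : ℕ) (S : Finset α), (∀ y, u y ∈ S ↔ y ∈ S) → (∀ y ∈ S, (u ^ (p ^ j)) y = y) →
      k * p ^ j ≤ S.card → ∃ Z ⊆ S, (∀ y, u y ∈ Z ↔ y ∈ Z) ∧ Z.card = k * p ^ j := by
  induction j with
  | zero =>
    intro k S hS hf hk
    obtain ⟨Z, hZ, hc⟩ := Finset.exists_subset_card_eq hk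
    simp only [pow_zero, pow_one] at hf
    refine ⟨Z, hZ, fun y => ⟨fun h => ?_, fun h => ?_⟩, hc⟩
    · rwa [hf y ((hS y).1 (hZ h))] at h
    · rwa [hf y (hZ h)]
  | succ j ih =>
    intro k
    induction k with
    | zero => intro S _ _ _; exact ⟨∅, by simp, by simp, by simp⟩
    | succ k ihk =>
      intro S hS hf hk
      by_cases h : ∀ y ∈ S, (u ^ (p ^ j)) y = y
      · have h3 : (k + 1) * p ^ (j + 1) = ((k + 1) * p) * p ^ j := by ring
        rw [h3] at hk ⊢
        exact ih _ S hS h hk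
      · push Not at h
        obtain ⟨x, hx, hx'⟩ := h
        obtain ⟨O, -, hO, hOi, hOS⟩ := orb p j hp u x (hf x hx) hx'
        have hsub := hOS S hS hx
        obtain ⟨Z, hZ, hZi, hZc⟩ := ihk (S \ O) (fun y => by simp [hS, hOi])
          (fun y hy => hf y (Finset.mem_sdiff.1 hy).1)
          (by rw [Finset.card_sdiff_of_subset hsub, hO]; rw [add_mul] at hk; omega)
        refine ⟨Z ∪ O, Finset.union_subset (hZ.trans Finset.sdiff_subset) hsub,
          fun y => by simp [hZi, hOi], ?_⟩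
        rw [Finset.card_union_of_disjoint (Finset.disjoint_of_subset_left hZ Finset.sdiff_disjoint),
          hZc, hO]
        ring

theorem exists_top {α : Type*} (p j : ℕ) (u : Perm α) (h : orderOf u = p ^ (j + 1)) (hp : p.Prime) :
    ∃ x, (u ^ (p ^ j)) x ≠ x := by
  by_contra hx
  push Not at hx
  have h1 : u ^ (p ^ j) = 1 := Equiv.ext hx
  have h2 := Nat.le_of_dvd (pow_pos hp.pos j) (h ▸ orderOf_dvd_of_pow_eq_one h1)
  have h3 : p ^ j < p ^ (j + 1) := Nat.pow_lt_pow_right hp.one_lt (by omega)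
  omega

theorem restr {α Ω : Type*} [Fintype α] [DecidableEq α] [Fintype Ω] (p j k : ℕ) (hp : p.Prime)
    (w : Perm α) (h : orderOf w = p ^ (j + 1)) (hk : Fintype.card Ω = (k + 1) * p ^ (j + 1))
    (hc : Fintype.card Ω ≤ Fintype.card α) :
    ∃ (f : Ω ↪ α) (b : Perm Ω), (∀ i, w (f i) = f (b i)) ∧ b ^ (p ^ (j + 1)) = 1 ∧ b ≠ 1 := by
  obtain ⟨x, hx⟩ := exists_top p j w h hp
  have hw : w ^ (p ^ (j + 1)) = 1 := h ▸ pow_orderOf_eq_one w
  obtain ⟨O, hxO, hO, hOi, -⟩ := orb p j hp w x (by rw [hw]; rfl) hx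
  obtain ⟨Z, hZ, hZi, hZc⟩ := inv_subset p hp w (j + 1) k (Finset.univ \ O) (fun y => by simp [hOi])
    (fun y _ => by rw [hw]; rfl)
    (by rw [Finset.card_sdiff_of_subset (Finset.subset_univ _), hO, Finset.card_univ]
        rw [add_mul] at hk; omega)
  have hc' : (Z ∪ O).card = Fintype.card Ω := by
    rw [Finset.card_union_of_disjoint (Finset.disjoint_of_subset_left hZ Finset.sdiff_disjoint),
      hZc, hO, hk]
    ring
  have hi : ∀ y, w y ∈ Z ∪ O ↔ y ∈ Z ∪ O := fun y => by simp [hZi, hOi]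
  let g : Ω ≃ ↥(Z ∪ O) := Fintype.equivOfCardEq (by rw [Fintype.card_coe, hc'])
  let f : Ω ↪ α := g.toEmbedding.trans (Function.Embedding.subtype _)
  let b : Perm Ω := g.symm.permCongr (w.subtypePerm hi)
  have hb : ∀ i, w (f i) = f (b i) := by
    intro i
    simp [f, b]
  have hbk : ∀ (l : ℕ) i, (w ^ l) (f i) = f ((b ^ l) i) := by
    intro l
    induction l with
    | zero => intro i; rfl
    | succ l ih => intro i; rw [pow_succ, pow_succ, Perm.mul_apply, Perm.mul_apply, hb, ih]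
  refine ⟨f, b, hb, Equiv.ext fun i => f.injective ?_, fun h1 => hx ?_⟩
  · rw [← hbk, hw]; rfl
  · have h2 : f (g.symm ⟨x, Finset.mem_union_right _ hxO⟩) = x := by simp [f]
    rw [← h2, hbk, h1, one_pow]; rfl

theorem main_le (n : ℕ) (hn : 5 ≤ n) (p : ℕ) (hp : p.Prime) (hp3 : 3 ≤ p) (u w : Perm (Fin n))
    (a b : ℕ) (hu : orderOf u = p ^ (a + 1)) (hw : orderOf w = p ^ (b + 1)) (hab : b ≤ a) :
    All p u w := by
  by_cases h5 : 5 ≤ p ^ (a + 1)
  · haveI : NeZero (p ^ (a + 1)) := ⟨pow_ne_zero _ hp.ne_zero⟩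
    obtain ⟨x, hx⟩ := exists_top p a u hu hp
    obtain ⟨e, -, he⟩ := cyc_emb p a hp u x (by rw [← hu, pow_orderOf_eq_one]; rfl) hx
    obtain ⟨k, hk⟩ : ∃ k, p ^ (a - b) = k + 1 := Nat.exists_eq_succ_of_ne_zero (pow_ne_zero _ hp.ne_zero)
    have hpk : p ^ (a + 1) = (k + 1) * p ^ (b + 1) := by
      rw [← hk, ← pow_add]; congr 1; omega
    obtain ⟨f, w0, hf, h1, h2⟩ := restr (Ω := ZMod (p ^ (a + 1))) p b k hp w hw
      (by rw [ZMod.card, hpk]) (Fintype.card_le_of_embedding e)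
    refine red e f (a := Equiv.addRight 1) he hf (big p a _ hp hp3 rfl h5 w0 ?_ h2)
    rw [show w0 ^ p ^ (a + 1) = (w0 ^ p ^ (b + 1)) ^ (k + 1) by rw [← pow_mul, mul_comm, ← hpk], h1,
      one_pow]
  · have ha : a = 0 := by
      by_contra h
      have h1 : 3 ^ 2 ≤ p ^ (a + 1) :=
        (Nat.pow_le_pow_left hp3 2).trans (Nat.pow_le_pow_right hp.pos (by omega))
      omega
    subst ha
    obtain rfl : b = 0 := by omega
    have hp3' : p = 3 := by
      rw [zero_add, pow_one] at h5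
      have : p ≠ 4 := by rintro rfl; norm_num at hp
      omega
    subst hp3'
    rcases hn.eq_or_lt with rfl | h6
    · refine small5 u w (by have := pow_orderOf_eq_one u; rwa [hu] at this) ?_
        (by have := pow_orderOf_eq_one w; rwa [hw] at this) ?_
      · rintro rfl; simp at hu
      · rintro rfl; simp at hw
    · obtain ⟨e, u0, he, h1, h2⟩ := restr (Ω := Fin 6) 3 0 1 hp u hu (by simp) (by simp; omega)
      obtain ⟨f, w0, hf, h3, h4⟩ := restr (Ω := Fin 6) 3 0 1 hp w hw (by simp) (by simp; omega)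
      exact red e f he hf (small6 u0 w0 h1 h2 h3 h4)

theorem main (n : ℕ) (hn : 5 ≤ n) (p : ℕ) (hp : p.Prime) (hp3 : 3 ≤ p) (u w : Perm (Fin n))
    (a b : ℕ) (hu : orderOf u = p ^ (a + 1)) (hw : orderOf w = p ^ (b + 1)) : All p u w := by
  rcases le_total b a with h | h
  · exact main_le n hn p hp hp3 u w a b hu hw h
  · exact (main_le n hn p hp hp3 w u b a hw hu h).symm

end Cfsg.Agent.H17.Fp
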