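import Cfsg.Agent.H17.LN6

/-! Matrix tables checked one generator at a time; an elementary abelian Thompson subgroup. -/

set_option autoImplicit false
open Cfsg Subgroup Equiv Matrix

namespace Cfsg.Agent.H17

universe u
variable {G : Type u} [Group G]

theorem allLt_of {f : ℕ → Bool} : ∀ {m : ℕ}, (∀ j < m, f j = true) → allLt m f = true
  | 0, _ => rfl
  | m + 1, h => band_true.2 ⟨h m m.lt_succ_self, allLt_of fun j hj => h j (hj.trans m.lt_succ_self)⟩

noncomputable def SM.mat1 {p : ℕ} [Fact p.Prime] (M : SM) (A : Ar (ZMod p)) (n : ℕ) (Ms : List (List (List ℕ))) (x : ℕ) (_ : Unit) : Bool :=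
  force (p ^ n) fun N => force (nth M.id M.ts x) fun t => allLt N fun i => forceS (getP M.w t i) fun j => band (ltB j N) <|
    strict (dg p n j) fun v => A.mvK (nth (idM n) Ms x) v fun r => A.veqS 1 r (dg p n i)

theorem SM.matB_of {p : ℕ} [Fact p.Prime] {M : SM} {A : Ar (ZMod p)} {n k : ℕ} {Ms : List (List (List ℕ))}
    (h1 : band (Nat.beq Ms.length k) (M.shp (p ^ n) Ms.length ((List.range n).map (p ^ ·))) = true)
    (h2 : Rng (M.mat1 A n Ms) 0 k) : M.matB A n Ms = true := by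
  rw [band_true] at h1
  rw [SM.matB, force_eq, band_true]
  refine ⟨h1.2, allLt_of fun x hx => ?_⟩
  obtain ⟨_, h⟩ := h2 x x.zero_le (beq_true h1.1 ▸ hx)
  rwa [SM.mat1, force_eq] at h

theorem of_thompson [Finite G] {p : ℕ} {P A : Subgroup G} (h : thompsonSubgroupOf p P = A) {B : Subgroup G} (h1 : B ≤ P)
    (h2 : IsElementaryAbelian p B) : Nat.card B ≤ Nat.card A ∧ (Nat.card B = Nat.card A → B = A) := by
  obtain ⟨C, hC, m⟩ := (Set.toFinite _).exists_maximalFor (fun C : Subgroup P => Nat.card C)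
    {C | IsElementaryAbelian p C} ⟨B.subgroupOf P, elab_subgroupOf h2 P⟩
  have k : ∀ X ∈ maxElementaryAbelianSubgroups p P, X.map P.subtype ≤ A := fun X hX => h ▸ map_mono (le_sSup hX)
  have m : ∀ X : Subgroup P, IsElementaryAbelian p X → Nat.card X ≤ Nat.card C := fun X hX => (le_total _ _).elim id (m hX)
  have c : Nat.card C ≤ Nat.card A := card_map_sub C ▸ card_le_of_le (k C ⟨hC, m⟩)
  have e := H1.card_subgroupOf_of_le h1
  refine ⟨e ▸ (m _ (elab_subgroupOf h2 P)).trans c, fun e' => eq_of_le_of_card_ge ?_ e'.ge⟩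
  exact map_subgroupOf_eq_of_le h1 ▸ k _ ⟨elab_subgroupOf h2 P, fun X hX => e ▸ e' ▸ (m X hX).trans c⟩

end Cfsg.Agent.H17
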