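import Cfsg.Agent.H17.FM3
import Cfsg.Agent.H17.Fi22B
import Cfsg.Agent.H29.U22

/-! The model of a group of type M(22). -/

set_option autoImplicit false
set_option maxRecDepth 100000
open Cfsg Subgroup Equiv

namespace Cfsg.Agent.H17

noncomputable def B22 : FD := ⟨Fi22bT.D, Fi22bS.S, 7, 0, 0, nat_lit 0xc0000000000038000000000000000001e000000000000000000000000001fffc70000000000000000000000000000000000000000000000000000000000000000000000001ffe000000000000000000000001f8000007ff800000000000000000000000000000000000000000000000000f0000000000000000000000000000000087e000001fffffe00000000000000000001000000000000c03f03f000000000000000ff00fff0001003f000000000000000000e0f8000000000000000003ffffffff30008001f0003f80f0601f81e6180000000000000000000000000000001fffffff80001ffc0000000000000000000003ff000000fff0003e00000007fff80007e1e001fe000001fe001f801801fffe0001ffc03fc003ffc00000000000000003fffffe00000f00ff0c080000000000000000000007fffff000000100000000000000000000000000000000000000000000003ffcc3c3ff00fc0fff00000c0fc0000000000000000001fffc0003ffff8000003df80000001fe000800000000000007ffffffff8003c7f8000000e05e00180007fffffffe00000023000f80000000001f81c183ff00f03f87f803f1,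 Fi22.baseB⟩
theorem B22.good : B22.Good := FD.good_of Fi22bT.good Fi22bS.ok (by decide +kernel)
theorem B22.all : B22.allB 9 6 = true := by decide +kernel
theorem model22' : ∃ β, FM B22 64561751654400 (conjugatesOf (Fi22.g 0)) Fi22.g Fi22bT.φ β :=
  exists_FM B22.good Fi22bT.rep Fi22.faithB (Fi22.centralizer_a ▸ Fi22bT.coset) (c := 1) (by simp [B22])
    (by simp [B22]) Fi22.threeTr.1.1
theorem model22 {G : Type*} [Group G] [Finite G] {D : Set G} (hD : IsThreeTranspositionGroup D)
    (ht : IsOfTypeM22 G D) : ∃ g φ β, FM B22 64561751654400 D g φ β :=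
  let ⟨e, he⟩ := H29.uniq22 hD ht; let ⟨_, h⟩ := model22'; ⟨_, _, _, h.equiv e he⟩

end Cfsg.Agent.H17
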