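import Cfsg.Agent.H17.SuzT
import Cfsg.Agent.H17.SuzU

/-! Order and simplicity. -/

namespace Cfsg.Agent.H17

set_option maxRecDepth 100000
set_option Elab.async false
noncomputable def Suz.z : List ℕ := [nat_lit 1, nat_lit 4, nat_lit 6, nat_lit 5, nat_lit 3, nat_lit 2]
noncomputable def Suz.R1 : List (List ℕ) := [unp 8 21 (nat_lit 0x203050604010103040302030506040103040301)] ++ Suz.R0

namespace SuzC

noncomputable def net0 : Net := benes 1
 []
 []
noncomputable def net1 : Net := benes 1
 []
 []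
noncomputable def net2 : Net := benes 1
 []
 []
noncomputable def net3 : Net := benes 1
 []
 []
noncomputable def net4 : Net := benes 1
 []
 []
noncomputable def net5 : Net := benes 1
 []
 []
noncomputable def net6 : Net := benes 1
 []
 []
noncomputable def D : TD := ⟨7, 7, 1, 2, 1, 0, [net0, net1, net2, net3, net4, net5, net6]⟩
noncomputable def K : List (List ℕ) := [[nat_lit 0],
  unp 8 19 (nat_lit 0x20305060403040302030506040103040301),
  unp 8 10 (nat_lit 0x1000100010001000100),
  [nat_lit 0, nat_lit 2, nat_lit 0, nat_lit 2],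
  [nat_lit 0, nat_lit 3, nat_lit 0, nat_lit 3],
  [nat_lit 0, nat_lit 4, nat_lit 0, nat_lit 4],
  [nat_lit 0, nat_lit 5, nat_lit 0, nat_lit 5],
  [nat_lit 0, nat_lit 6, nat_lit 0, nat_lit 6],
  [nat_lit 1, nat_lit 2, nat_lit 1, nat_lit 2, nat_lit 1, nat_lit 2],
  [nat_lit 1, nat_lit 3, nat_lit 1, nat_lit 3],
  [nat_lit 1, nat_lit 4, nat_lit 1, nat_lit 4],
  [nat_lit 1, nat_lit 5, nat_lit 1, nat_lit 5, nat_lit 1, nat_lit 5],
  [nat_lit 1, nat_lit 6, nat_lit 1, nat_lit 6, nat_lit 1, nat_lit 6],
  unp 8 16 (nat_lit 0x3020302030203020302030203020302),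
  [nat_lit 2, nat_lit 4, nat_lit 2, nat_lit 4],
  [nat_lit 2, nat_lit 5, nat_lit 2, nat_lit 5],
  [nat_lit 2, nat_lit 6, nat_lit 2, nat_lit 6],
  [nat_lit 3, nat_lit 4, nat_lit 3, nat_lit 4, nat_lit 3, nat_lit 4],
  [nat_lit 3, nat_lit 5, nat_lit 3, nat_lit 5],
  [nat_lit 3, nat_lit 6, nat_lit 3, nat_lit 6],
  [nat_lit 4, nat_lit 5, nat_lit 4, nat_lit 5],
  [nat_lit 4, nat_lit 6, nat_lit 4, nat_lit 6],
  unp 8 8 (nat_lit 0x605060506050605),
  unp 8 9 (nat_lit 0x20302030203020300),
  [nat_lit 0, nat_lit 6, nat_lit 5, nat_lit 6, nat_lit 5],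
  unp 8 20 (nat_lit 0x502010005020100050201000502010005020100),
  unp 8 15 (nat_lit 0x60501060501060501060501060501),
  unp 8 78 (nat_lit 0x40302030201030203020103020302010302030201030203020104030203020103020302010302030201030203020103020302010403020302010302030201030203020103020302010302030201),
  [nat_lit 0],
  [nat_lit 1],
  [nat_lit 1, nat_lit 2],
  [nat_lit 1, nat_lit 2, nat_lit 1, nat_lit 2, nat_lit 0, nat_lit 5],
  unp 8 14 (nat_lit 0x600050205010005020501000502),
  [nat_lit 1, nat_lit 2, nat_lit 1, nat_lit 4],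
  [nat_lit 1, nat_lit 4, nat_lit 1, nat_lit 3]]
noncomputable def W : List (List ℕ) := []
noncomputable def t0 : ℕ := nat_lit 0x4
noncomputable def i0 : ℕ := nat_lit 0x1
noncomputable def t1 : ℕ := nat_lit 0x4
noncomputable def i1 : ℕ := nat_lit 0x1
noncomputable def t2 : ℕ := nat_lit 0x10
noncomputable def i2 : ℕ := nat_lit 0x1
noncomputable def t3 : ℕ := nat_lit 0x40
noncomputable def i3 : ℕ := nat_lit 0x1
noncomputable def t4 : ℕ := nat_lit 0x14
noncomputable def i4 : ℕ := nat_lit 0x1
noncomputable def t5 : ℕ := nat_lit 0x14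
noncomputable def i5 : ℕ := nat_lit 0x1
noncomputable def t6 : ℕ := nat_lit 0x40
noncomputable def i6 : ℕ := nat_lit 0x1
noncomputable def C : TT := ⟨4, 2, [t0, t1, t2, t3, t4, t5, t6], 1, [i0, i1, i2, i3, i4, i5, i6], K, W⟩
noncomputable def rs1 : List Rule := [.rel 0 0 0, .rel 29 0 0, .rel 30 0 1, .rel 34 0 3, .rel 33 0 3, .rel 31 0 5, .rel 32 0 13]
noncomputable def rss : List (List Rule) := [rs1]
noncomputable def ds : List (List (List ℕ)) := [[[nat_lit 1]],
 [[nat_lit 17]],
 [[nat_lit 33]],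
 [[nat_lit 49]],
 [[nat_lit 65]],
 [[nat_lit 81]],
 [[nat_lit 97]],
 [[nat_lit 113]],
 [[nat_lit 129]],
 [[nat_lit 145]],
 [[nat_lit 161]],
 [[nat_lit 177]],
 [[nat_lit 193]],
 [[nat_lit 209]],
 [[nat_lit 225]],
 [[nat_lit 241]],
 [[nat_lit 257]],
 [[nat_lit 273]],
 [[nat_lit 289]],
 [[nat_lit 305]],
 [[nat_lit 321]],
 [[nat_lit 337]],
 [[nat_lit 353]],
 [[nat_lit 369]],
 [[nat_lit 385]],
 [[nat_lit 401]],
 [[nat_lit 417]],
 [[nat_lit 433]],
 [[nat_lit 0, nat_lit 217, nat_lit 0],
  [nat_lit 4],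
  [nat_lit 3]],
 [[nat_lit 8, nat_lit 0, nat_lit 225, nat_lit 0, nat_lit 8],
  [nat_lit 4],
  unp 16 8 (nat_lit 0x30000000300000003000800d10008),
  [nat_lit 3],
  [nat_lit 3]],
 [[nat_lit 16, nat_lit 8, nat_lit 1, nat_lit 8, nat_lit 16],
  unp 16 10 (nat_lit 0x8001000080008001000a90010000800080010),
  [nat_lit 12, nat_lit 4, nat_lit 11],
  [nat_lit 4],
  [nat_lit 4],
  [nat_lit 3, nat_lit 8]],
 [[nat_lit 40, nat_lit 40, nat_lit 121, nat_lit 40, nat_lit 40, nat_lit 16],
  [nat_lit 40, nat_lit 16, nat_lit 1, nat_lit 16, nat_lit 40, nat_lit 3],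
  [nat_lit 40, nat_lit 40, nat_lit 193, nat_lit 40, nat_lit 40, nat_lit 0],
  unp 16 18 (nat_lit 0x13000b00030010000800000013000b00030010000800000013000b0003002800290028),
  [nat_lit 3],
  [nat_lit 3, nat_lit 0, nat_lit 16, nat_lit 8, nat_lit 16, nat_lit 8]],
 [unp 16 9 (nat_lit 0x280030003000280039002800300030),
  [nat_lit 48, nat_lit 48, nat_lit 121, nat_lit 48, nat_lit 48, nat_lit 16],
  [nat_lit 48, nat_lit 16, nat_lit 9, nat_lit 16, nat_lit 48, nat_lit 3],
  unp 16 13 (nat_lit 0x13000300280008001300030028000800130003003000290030),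
  [nat_lit 3],
  unp 16 14 (nat_lit 0x100028000000080028001000280000000800280010002800000003)],
 [[nat_lit 32, nat_lit 32, nat_lit 177, nat_lit 32, nat_lit 32, nat_lit 8],
  unp 16 8 (nat_lit 0x400200018001800b9001800180020),
  [nat_lit 32, nat_lit 24, nat_lit 17, nat_lit 24, nat_lit 32, nat_lit 3],
  [nat_lit 32, nat_lit 32, nat_lit 145, nat_lit 32, nat_lit 32, nat_lit 16],
  [nat_lit 24, nat_lit 24, nat_lit 185, nat_lit 24, nat_lit 24, nat_lit 8],
  [nat_lit 24, nat_lit 17, nat_lit 24, nat_lit 3],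
  unp 16 52 (nat_lit 0x1b0013002b001b0013002b001b0013002b001b0013002b001b0013002b000300100008000300100008000300100008000300100008000300100008001b0013002b001b0013002b001b0013002b001b0013002b001b0013002b0018001800200029002000180018),
  [nat_lit 3],
  [nat_lit 4],
  [nat_lit 4],
  [nat_lit 3, nat_lit 8, nat_lit 16, nat_lit 8]],
 [[nat_lit 24, nat_lit 24, nat_lit 193, nat_lit 24, nat_lit 24, nat_lit 8],
  [nat_lit 24, nat_lit 25, nat_lit 24, nat_lit 3],
  [nat_lit 24, nat_lit 1, nat_lit 24, nat_lit 11, nat_lit 3, nat_lit 11],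
  [nat_lit 129, nat_lit 3, nat_lit 32, nat_lit 3],
  [nat_lit 3],
  [nat_lit 3, nat_lit 8, nat_lit 32, nat_lit 8]]]
theorem goodB : D.goodB = true := by decide +kernel
theorem good : D.Good := TD.goodB_sound goodB
theorem tree : treeB D C 1 = true := by decide +kernel
theorem b1 : batchB D C 1 rs1 = true := by decide +kernel
theorem allB : AllB D C rss 1 := ⟨b1, trivial⟩
theorem satK : Sat D.ρ K := TD.satB_sound good.toShape (by decide +kernel)
theorem cert : TCert D C rss := ⟨good, satK, tree, allB⟩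
theorem der : chkDer 7 K ds ([[0]] ++ Suz.R1) = true := by decide +kernel

end SuzC

namespace Suz

noncomputable def levels : List Lev := [⟨0, [[nat_lit 0],
  [nat_lit 1],
  [nat_lit 2],
  [nat_lit 3],
  [nat_lit 4],
  [nat_lit 5],
  [nat_lit 6]], 6, 1782⟩,
 ⟨1, [[nat_lit 0],
  [nat_lit 1],
  [nat_lit 2],
  [nat_lit 3],
  [nat_lit 4],
  [nat_lit 5]], 5, 1365⟩,
 ⟨18, [[nat_lit 0],
  [nat_lit 2],
  [nat_lit 3],
  [nat_lit 4],
  [nat_lit 5],
  unp 8 13 (nat_lit 0x1000203010001020103050201)], 3, 20⟩,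
 ⟨19, [[nat_lit 0],
  [nat_lit 2],
  [nat_lit 4],
  [nat_lit 5],
  unp 8 13 (nat_lit 0x1000203010001020103050201),
  unp 8 15 (nat_lit 0x30100020301000102010305020103)], 2, 16⟩,
 ⟨238, [[nat_lit 0],
  [nat_lit 5],
  unp 8 30 (nat_lit 0x40201020503010201000103020001040102050301020100010302000104),
  unp 8 31 (nat_lit 0x4030100020301000102010305020103010002030100010201030502010204)], 5, 12⟩,
 ⟨1724, [[nat_lit 0],
  [nat_lit 5],
  unp 8 31 (nat_lit 0x4030100020301000102010305020103010002030100010201030502010204),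
  unp 8 31 (nat_lit 0x4020102050301020100010302000103010205030102010001030200010304),
  unp 8 115 (nat_lit 0x4010002030100010201030502010401000203010001020103050201020100020301000102010305020104010002030100010201030502010203010002030100010201030502010301000203010001020103050201020100020301000102010305020104010002030100010201030502010204),
  unp 8 115 (nat_lit 0x4020102050301020100010302000104010205030102010001030200010201020503010201000103020001030102050301020100010302000103020102050301020100010302000104010205030102010001030200010201020503010201000103020001040102050301020100010302000104)], 1, 4⟩,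
 ⟨34, [[nat_lit 0],
  [nat_lit 5],
  unp 8 115 (nat_lit 0x4010002030100010201030502010401000203010001020103050201020100020301000102010305020104010002030100010201030502010203010002030100010201030502010301000203010001020103050201020100020301000102010305020104010002030100010201030502010204),
  unp 8 115 (nat_lit 0x4020102050301020100010302000104010205030102010001030200010201020503010201000103020001030102050301020100010302000103020102050301020100010302000104010205030102010001030200010201020503010201000103020001040102050301020100010302000104)], 1, 3⟩,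
 ⟨405, [[nat_lit 0],
  [nat_lit 5]], 1, 2⟩,
 ⟨2, [[nat_lit 0]], 1, 2⟩]
theorem low : lowB SuzT.D 6 levels [] = true := by decide +kernel
/-- a base for the action -/
def base : List ℕ := [2, 405, 34, 1724, 238, 19, 18, 1, 0]
theorem faith : Faith SuzT.φ 448345497600 base :=
  SuzT.rep.faith' (SuzT.coset.cardLe_top (SuzU.card0.mono (wgrp_le_of_subsetB _ (by decide +kernel)))) low (by decide +kernel) (by decide +kernel)
theorem prim : primB SuzT.D SuzT.W [[nat_lit 6],
  unp 8 7 (nat_lit 0x6010203020106)] 5 = true := by decide +kernel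
theorem z_pow : ev g z ^ 11 = 1 := faith.pow_eq_one SuzT.rep (by decide +kernel)
theorem sat1 : Sat g R1 := Sat.append (faith.sat SuzT.rep (by decide +kernel)) pres.sat
theorem der0 : chkDer 7 [[0]] [[unp 16 11 (nat_lit 0x20008001800200018000200180020001800080009)]] ([z] ++ R1) = true := by decide +kernel
theorem simple : IsSimpleGroup Cfsg.Spor.Suz :=
  simple_of_cert SuzT.rep faith (by norm_num) SuzT.coset.trans prim z_pow (by decide +kernel) sat1
    SuzC.cert rfl rfl rfl rfl der0 SuzC.der

end Suz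

end Cfsg.Agent.H17
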