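import Cfsg.Agent.H17.Words
import Cfsg.Prelude.Def_Spor_Suz

/-! The presentation of Suz in letters. -/

namespace Cfsg.Agent.H17.Suz

open Cfsg.Spor

def lets : List (Suz.Gen × Bool) := [(.a, true), (.b, true), (.c, true), (.d, true), (.e, true), (.f, true), (.g, true)]
def gens : List Suz.Gen := [.a, .b, .c, .d, .e, .f, .g]
def enc : Suz.Gen → ℕ
  | .a => 0
  | .b => 1
  | .c => 2
  | .d => 3
  | .e => 4
  | .f => 5
  | .g => 6

theorem mem_gens (a : Suz.Gen) : a ∈ gens := by cases a <;> decide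

theorem letsOK : LetsOK 7 7 lets gens enc Suz.edges Suz.extra := by decide +kernel

/-- the letters -/
noncomputable def g : ℕ → Suz := letOf lets PresentedGroup.of

noncomputable def R0 : List (List ℕ) := [unp 8 10 (nat_lit 0x1000100010001000100),
  [nat_lit 0, nat_lit 2, nat_lit 0, nat_lit 2],
  [nat_lit 0, nat_lit 3, nat_lit 0, nat_lit 3],
  [nat_lit 0, nat_lit 4, nat_lit 0, nat_lit 4],
  [nat_lit 0, nat_lit 5, nat_lit 0, nat_lit 5],
  [nat_lit 0, nat_lit 6, nat_lit 0, nat_lit 6],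
  [nat_lit 1, nat_lit 2, nat_lit 1, nat_lit 2, nat_lit 1, nat_lit 2],
  [nat_lit 1, nat_lit 3, nat_lit 1, nat_lit 3],
  [nat_lit 1, nat_lit 4, nat_lit 1, nat_lit 4],
  [nat_lit 1, nat_lit 5, nat_lit 1, nat_lit 5, nat_lit 1, nat_lit 5],
  [nat_lit 1, nat_lit 6, nat_lit 1, nat_lit 6, nat_lit 1, nat_lit 6],
  unp 8 16 (nat_lit 0x3020302030203020302030203020302),
  [nat_lit 2, nat_lit 4, nat_lit 2, nat_lit 4],
  [nat_lit 2, nat_lit 5, nat_lit 2, nat_lit 5],
  [nat_lit 2, nat_lit 6, nat_lit 2, nat_lit 6],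
  [nat_lit 3, nat_lit 4, nat_lit 3, nat_lit 4, nat_lit 3, nat_lit 4],
  [nat_lit 3, nat_lit 5, nat_lit 3, nat_lit 5],
  [nat_lit 3, nat_lit 6, nat_lit 3, nat_lit 6],
  [nat_lit 4, nat_lit 5, nat_lit 4, nat_lit 5],
  [nat_lit 4, nat_lit 6, nat_lit 4, nat_lit 6],
  unp 8 8 (nat_lit 0x605060506050605),
  unp 8 9 (nat_lit 0x20302030203020300),
  [nat_lit 0, nat_lit 6, nat_lit 5, nat_lit 6, nat_lit 5],
  unp 8 20 (nat_lit 0x502010005020100050201000502010005020100),
  unp 8 15 (nat_lit 0x60501060501060501060501060501),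
  unp 8 78 (nat_lit 0x40302030201030203020103020302010302030201030203020104030203020103020302010302030201030203020103020302010403020302010302030201030203020103020302010302030201)]

theorem R0_eq : coxWords 7 gens enc Suz.edges Suz.extra = R0 := by decide +kernel

theorem pres : Presents 7 7 R0 g := R0_eq ▸ presents_cox mem_gens letsOK

theorem mk_eq (r : FreeGroup Suz.Gen) :
    PresentedGroup.mk (coxRelators Suz.edges ∪ {r | r ∈ Suz.extra}) r = ev g (wordOf 7 enc r) :=
  mk_eq_ev mem_gens letsOK r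

end Cfsg.Agent.H17.Suz
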